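import Mathlib
import Cfsg.Agent.Lib.SzB.Auto
import Cfsg.Agent.Lib.SzB.Std
import Cfsg.Agent.Lib.SzB.MinDegree
import Cfsg.Agent.Lib.SzO.Elementary

/-!
# Centralisers of unipotent and split torus elements
-/

set_option autoImplicit false

open scoped Matrix

namespace Cfsg.Agent.SzC

open Cfsg.Agent.SzB

variable {F : Type*} [Field F] [CharP F 2] (τ : Twist F)

/-- the scalar of a member of the stabiliser -/
def sc (g : Cfsg.Lie.Sz F τ.e) : F := colS τ g 0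

theorem colS_eq_sc {g : Cfsg.Lie.Sz F τ.e} (hg : g ∈ bor τ) : colS τ g = sc τ g • colS τ 1 := by
  obtain ⟨c, hc⟩ := hg
  have : sc τ g = c := by
    rw [sc, hc]; simp [colS, col]
  rw [this, hc]

theorem sc_mul {g h : Cfsg.Lie.Sz F τ.e} (hg : g ∈ bor τ) (hh : h ∈ bor τ) :
    sc τ (g * h) = sc τ g * sc τ h := by
  have h1 := colS_scale τ (colS_eq_sc τ hh) g
  rw [mul_one, colS_eq_sc τ hg, smul_smul] at h1
  show colS τ (g * h) 0 = _
  rw [h1]
  simp [colS, col, mul_comm]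

theorem sc_tS (u : Fˣ) : sc τ (tS τ u) = u := colS_tS_zero τ u

theorem sc_uS (a b : F) : sc τ (uS τ a b) = 1 := by
  show colS τ (uS τ a b) 0 = 1
  rw [colS_uS]
  simp [colS, col]

variable [Fintype F]

theorem sq_eq_one_units {u : Fˣ} (h : u * u = 1) : u = 1 := by
  apply Units.ext
  apply frobenius_inj F 2
  simpa [frobenius_def, pow_two] using congrArg Units.val h

theorem tS_cell (u : Fˣ) (x y : F) :
    tS τ u * (uS τ x y * wS τ) =
      uS τ (x * τ.th ((u⁻¹ : Fˣ) : F) / ((u⁻¹ : Fˣ) : F) ^ 2) (y / τ.th ((u⁻¹ : Fˣ) : F)) * wS τ *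
        (tS τ u)⁻¹ := by
  have hd := tS_uS τ u x y
  rw [mul_inv_eq_iff_eq_mul] at hd
  rw [← mul_assoc, hd]
  set z := uS τ (x * τ.th ((u⁻¹ : Fˣ) : F) / ((u⁻¹ : Fˣ) : F) ^ 2) (y / τ.th ((u⁻¹ : Fˣ) : F))
  rw [← wS_tS τ u]
  calc z * tS τ u * wS τ = z * (wS τ * wS τ) * tS τ u * wS τ := by rw [wS_sq, mul_one]
    _ = _ := by simp only [mul_assoc]

theorem torus_norm {v : Fˣ} (hv : v ≠ 1) {x : Cfsg.Lie.Sz F τ.e} {v' : Fˣ}
    (h : x * tS τ v * x⁻¹ = tS τ v') :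
    (∃ u, x = tS τ u ∧ v' = v) ∨ (∃ u, x = wS τ * tS τ u ∧ v' = v⁻¹) := by
  classical
  have hv' : v' ≠ 1 := by
    intro h1
    apply hv
    apply SzO.tS_injective τ
    rw [h1, map_one] at h
    rw [map_one]
    calc tS τ v = x⁻¹ * (x * tS τ v * x⁻¹) * x := by group
      _ = 1 := by rw [h]; group
  have h' : x * tS τ v = tS τ v' * x := mul_inv_eq_iff_eq_mul.mp h
  -- an element of the stabiliser commuting up to torus is a torus element
  have inB : ∀ {y : Cfsg.Lie.Sz F τ.e} {w w' : Fˣ}, w ≠ 1 → y ∈ bor τ → y * tS τ w = tS τ w' * y →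
      ∃ u, y = tS τ u ∧ w' = w := by
    intro y w w' hw hy hyw
    obtain ⟨u, a, b, rfl⟩ := (mem_bor_iff τ).mp hy
    have hs := congrArg (sc τ) hyw
    rw [sc_mul τ hy (tS_mem_bor τ w), sc_mul τ (tS_mem_bor τ w') hy,
      sc_mul τ (tS_mem_bor τ u) (uS_mem_bor τ a b), sc_tS, sc_tS, sc_tS, sc_uS, mul_one, mul_comm] at hs
    have hww : w' = w := Units.ext (mul_right_cancel₀ u.ne_zero hs).symm
    refine ⟨u, ?_, hww⟩
    subst hww
    have h2 : uS τ a b * tS τ w' = tS τ w' * uS τ a b := by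
      apply mul_left_cancel (a := tS τ u)
      calc tS τ u * (uS τ a b * tS τ w') = tS τ u * uS τ a b * tS τ w' := (mul_assoc _ _ _).symm
        _ = tS τ w' * (tS τ u * uS τ a b) := hyw
        _ = (tS τ w' * tS τ u) * uS τ a b := (mul_assoc _ _ _).symm
        _ = (tS τ u * tS τ w') * uS τ a b := by rw [← map_mul, mul_comm, map_mul]
        _ = _ := mul_assoc _ _ _
    have h3 := tS_uS τ w' a b
    rw [← h2, mul_inv_cancel_right] at h3
    obtain ⟨e1, e2⟩ := uS_inj τ h3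
    have ht0 : τ.th ((w'⁻¹ : Fˣ) : F) ≠ 0 := fun h => (w'⁻¹).ne_zero (τ.th_inj h)
    have ha : a = 0 := by
      by_contra ha
      apply hw
      refine inv_eq_one.mp (chi_inj τ ?_)
      apply mul_left_cancel₀ ha
      rw [mul_one, ← mul_div_assoc]; exact e1.symm
    have hb : b = 0 := by
      by_contra hb
      apply hw
      refine inv_eq_one.mp (Units.ext (τ.th.injective ?_))
      rw [Units.val_one, map_one]
      apply mul_left_cancel₀ hb
      rw [mul_one]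
      exact (eq_div_iff ht0).mp e2
    rw [ha, hb, uS_zero, mul_one]
  by_cases hx : x ∈ bor τ
  · exact Or.inl (inB hv hx h')
  · right
    obtain ⟨a, b, hab⟩ := exists_cell τ hx
    set β := (uS τ a b * wS τ)⁻¹ * x with hβ
    have hxe : x = uS τ a b * wS τ * β := by rw [hβ, mul_inv_cancel_left]
    set a' := a * τ.th ((v'⁻¹ : Fˣ) : F) / ((v'⁻¹ : Fˣ) : F) ^ 2 with ha'
    set b' := b / τ.th ((v'⁻¹ : Fˣ) : F) with hb'
    have h5 : uS τ a' b' * wS τ * ((tS τ v')⁻¹ * β) = uS τ a b * wS τ * (β * tS τ v) := by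
      have h4 := h'
      rw [hxe, ← mul_assoc (tS τ v'), tS_cell] at h4
      simp only [mul_assoc] at h4 ⊢
      exact h4.symm
    have hmem : (uS τ a b * wS τ)⁻¹ * (uS τ a' b' * wS τ) ∈ bor τ := by
      have e : (uS τ a b * wS τ)⁻¹ * (uS τ a' b' * wS τ) = β * tS τ v * ((tS τ v')⁻¹ * β)⁻¹ := by
        rw [eq_mul_inv_iff_mul_eq, mul_assoc, h5, inv_mul_cancel_left]
      rw [e]
      exact mul_mem (mul_mem hab (tS_mem_bor τ v)) (inv_mem (mul_mem (inv_mem (tS_mem_bor τ v')) hab))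
    obtain ⟨e1, e2⟩ := cell_unique τ hmem
    rw [← e1, ← e2] at h5
    have h6 : (tS τ v')⁻¹ * β = β * tS τ v := mul_left_cancel h5
    obtain ⟨u, hu, huv⟩ := inB hv hab (by rw [map_inv]; exact h6.symm : β * tS τ v = tS τ v'⁻¹ * β)
    have ht0 : τ.th ((v'⁻¹ : Fˣ) : F) ≠ 0 := fun h => (v'⁻¹).ne_zero (τ.th_inj h)
    have ha : a = 0 := by
      by_contra ha
      apply hv'
      refine inv_eq_one.mp (chi_inj τ ?_)
      apply mul_left_cancel₀ ha
      rw [mul_one, ← mul_div_assoc]; exact e1.symm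
    have hb : b = 0 := by
      by_contra hb
      apply hv'
      refine inv_eq_one.mp (Units.ext (τ.th.injective ?_))
      rw [Units.val_one, map_one]
      apply mul_left_cancel₀ hb
      rw [mul_one]
      exact (eq_div_iff ht0).mp e2
    exact ⟨u, by rw [hxe, hu, ha, hb, uS_zero, one_mul], by rw [← huv, inv_inv]⟩

theorem cent_torus {v : Fˣ} (hv : v ≠ 1) {x : Cfsg.Lie.Sz F τ.e} (h : x * tS τ v = tS τ v * x) :
    x ∈ (tS τ).range := by
  have h' : x * tS τ v * x⁻¹ = tS τ v := by rw [h, mul_inv_cancel_right]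
  rcases torus_norm τ hv h' with ⟨u, hu, -⟩ | ⟨u, hu, e⟩
  · exact ⟨u, hu.symm⟩
  · exact absurd (sq_eq_one_units (by nth_rewrite 1 [e]; exact inv_mul_cancel v)) hv

/-- the normaliser of the split torus -/
def normT : Subgroup (Cfsg.Lie.Sz F τ.e) where
  carrier := {x | ∃ u, x = tS τ u ∨ x = wS τ * tS τ u}
  one_mem' := ⟨1, Or.inl (map_one _).symm⟩
  mul_mem' := by
    have hsw : ∀ u, tS τ u * wS τ = wS τ * tS τ u⁻¹ := fun u => by
      rw [map_inv, ← wS_tS, ← mul_assoc, ← mul_assoc, wS_sq, one_mul]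
    rintro _ _ ⟨u, rfl | rfl⟩ ⟨v, rfl | rfl⟩
    · exact ⟨u * v, Or.inl (map_mul _ _ _).symm⟩
    · refine ⟨u⁻¹ * v, Or.inr ?_⟩
      rw [← mul_assoc, hsw, mul_assoc, map_mul]
    · exact ⟨u * v, Or.inr (by rw [mul_assoc, map_mul])⟩
    · refine ⟨u⁻¹ * v, Or.inl ?_⟩
      rw [mul_assoc, ← mul_assoc (tS τ u), hsw, ← mul_assoc, ← mul_assoc, wS_sq, one_mul, map_mul]
  inv_mem' := by
    rintro _ ⟨u, rfl | rfl⟩
    · exact ⟨u⁻¹, Or.inl (map_inv _ _).symm⟩
    · refine ⟨u, Or.inr (inv_eq_of_mul_eq_one_right ?_)⟩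
      calc wS τ * tS τ u * (wS τ * tS τ u) = wS τ * tS τ u * wS τ * tS τ u := (mul_assoc _ _ _).symm
        _ = 1 := by rw [wS_tS, inv_mul_cancel]

theorem normT_conj {x y : Cfsg.Lie.Sz F τ.e} (hx : x ∈ normT τ) (hy : y ∈ (tS τ).range) :
    x * y * x⁻¹ ∈ (tS τ).range := by
  obtain ⟨v, rfl⟩ := hy
  obtain ⟨u, rfl | rfl⟩ := hx
  · exact ⟨v, by rw [← map_mul, mul_comm, map_mul, mul_inv_cancel_right]⟩
  · refine ⟨v⁻¹, ?_⟩
    have e : wS τ * tS τ u * tS τ v * (wS τ * tS τ u)⁻¹ = wS τ * (tS τ u * tS τ v * (tS τ u)⁻¹) * (wS τ)⁻¹ := by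
      group
    rw [e, ← map_mul, mul_comm u v, map_mul, mul_inv_cancel_right, inv_eq_of_mul_eq_one_right (wS_sq τ),
      wS_tS, map_inv]

theorem card_torus : Nat.card (tS τ).range = Fintype.card F - 1 := by
  classical
  rw [← Nat.card_congr (MonoidHom.ofInjective (SzO.tS_injective τ)).toEquiv, Nat.card_eq_fintype_card,
    Fintype.card_units]

theorem wS_not_torus : wS τ ∉ (tS τ).range := by
  rintro ⟨u, hu⟩
  apply uw_not_mem τ 0 0
  rw [uS_zero, one_mul, ← hu]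
  exact tS_mem_bor τ u

theorem card_normT : Nat.card (normT τ) = 2 * (Fintype.card F - 1) := by
  classical
  let f : Fˣ ⊕ Fˣ → normT τ :=
    Sum.elim (fun u => ⟨tS τ u, u, Or.inl rfl⟩) (fun u => ⟨wS τ * tS τ u, u, Or.inr rfl⟩)
  have hf : Function.Bijective f := by
    constructor
    · rintro (u | u) (v | v) h <;> have h' := congrArg Subtype.val h
      · exact congrArg Sum.inl (SzO.tS_injective τ h')
      · exact absurd ⟨u * v⁻¹, by
          rw [map_mul, map_inv, mul_inv_eq_iff_eq_mul]; exact h'⟩ (wS_not_torus τ)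
      · exact absurd ⟨v * u⁻¹, by
          rw [map_mul, map_inv, mul_inv_eq_iff_eq_mul]; exact h'.symm⟩ (wS_not_torus τ)
      · exact congrArg Sum.inr (SzO.tS_injective τ (mul_left_cancel h'))
    · rintro ⟨x, u, rfl | rfl⟩
      · exact ⟨Sum.inl u, rfl⟩
      · exact ⟨Sum.inr u, rfl⟩
  rw [← Nat.card_congr (Equiv.ofBijective f hf), Nat.card_sum, Nat.card_eq_fintype_card, Fintype.card_units]
  ring

theorem cent_unip {y : Cfsg.Lie.Sz F τ.e} (hy : y ∈ unip τ) (hy1 : y ≠ 1) {x : Cfsg.Lie.Sz F τ.e}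
    (h : x * y = y * x) : x ∈ bor τ := by
  refine SzO.mem_bor_of_fixes τ hy hy1 ?_
  rw [mul_assoc, ← h, inv_mul_cancel_left]
  exact unip_le_bor τ hy

theorem cent_center {b : F} (hb : b ≠ 0) {x : Cfsg.Lie.Sz F τ.e}
    (h : x * uS τ 0 b = uS τ 0 b * x) : x ∈ unip τ := by
  have hne : uS τ 0 b ≠ 1 := fun h0 => hb (uS_inj τ (h0.trans (uS_zero τ).symm)).2
  obtain ⟨u, p, q, rfl⟩ := (mem_bor_iff τ).mp (cent_unip τ ⟨0, b, rfl⟩ hne h)
  have h1 : tS τ u * uS τ 0 b = uS τ 0 b * tS τ u := by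
    apply mul_right_cancel (b := uS τ p q)
    rw [mul_assoc, ← comm_uS_center, ← mul_assoc, h, mul_assoc]
  have h2 := tS_uS τ u 0 b
  rw [h1, mul_inv_cancel_right] at h2
  have e2 := (uS_inj τ h2).2
  have ht0 : τ.th ((u⁻¹ : Fˣ) : F) ≠ 0 := fun h => (u⁻¹).ne_zero (τ.th_inj h)
  have hu : u = 1 := by
    refine inv_eq_one.mp (Units.ext (τ.th.injective ?_))
    rw [Units.val_one, map_one]
    apply mul_left_cancel₀ hb
    rw [mul_one]
    exact (eq_div_iff ht0).mp e2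
  rw [hu, map_one, one_mul]
  exact ⟨p, q, rfl⟩

end Cfsg.Agent.SzC
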