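import Mathlib
import Cfsg.Agent.Lib.SzC.Torus

/-!
# Centralisers of elements of prime order dividing `q ^ 2 + 1`
-/

set_option autoImplicit false

open scoped Matrix

namespace Cfsg.Agent.SzC

open Cfsg.Agent.SzB
open Cfsg.Agent.SuzukiFix (antiJ adj rv)
open Polynomial (X C)

variable {F : Type*} [Field F] [CharP F 2]

/-- The quadratic relation satisfied by `g + g⁻¹`. -/
theorem quad (τ : Twist F) (g : Cfsg.Lie.Sz F τ.e) :
    ∃ t : F, (((g : GL (Fin 4) F) : Matrix (Fin 4) (Fin 4) F) +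
        ((g⁻¹ : Cfsg.Lie.Sz F τ.e) : GL (Fin 4) F)) * (((g : GL (Fin 4) F) : Matrix (Fin 4) (Fin 4) F) +
        ((g⁻¹ : Cfsg.Lie.Sz F τ.e) : GL (Fin 4) F)) +
      t • (((g : GL (Fin 4) F) : Matrix (Fin 4) (Fin 4) F) + ((g⁻¹ : Cfsg.Lie.Sz F τ.e) : GL (Fin 4) F)) +
      τ.th t • (1 : Matrix (Fin 4) (Fin 4) F) = 0 := by
  obtain ⟨hp, hs⟩ := mem_facts τ g.2
  set M := ((g : GL (Fin 4) F) : Matrix (Fin 4) (Fin 4) F) with hM
  have hinv : (((g⁻¹ : Cfsg.Lie.Sz F τ.e) : GL (Fin 4) F) : Matrix (Fin 4) (Fin 4) F) = adj M := by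
    have h1 : M * adj M = 1 := Cfsg.Agent.SuzukiFix.mul_adj_self hp
    have h2 : ((g : GL (Fin 4) F)⁻¹ : GL (Fin 4) F).val = adj M := by
      rw [← mul_one ((g : GL (Fin 4) F)⁻¹ : GL (Fin 4) F).val, ← h1, ← Matrix.mul_assoc, hM,
        ← Units.val_mul, inv_mul_cancel, Units.val_one, Matrix.one_mul]
    exact h2
  rw [hinv]
  set t := M 0 0 + M 3 3 + (M 1 1 + M 2 2) with ht
  set E := (Cfsg.Lie.star4 M).trace with hE
  refine ⟨t, ?_⟩
  have hEt : τ.th t = E := by
    rw [ht, hE, Matrix.trace, Fin.sum_univ_four]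
    simp only [Matrix.diag, hs, map_add]
    ring
  rw [hEt]
  have h2 : (2 : F) = 0 := CharTwo.two_eq_zero
  have hrow := congrFun (congrFun (Cfsg.Agent.SuzukiFix.mul_adj_self hp) 0) 0
  have hcol := congrFun (congrFun (Cfsg.Agent.SuzukiFix.adj_mul_self hp) 0) 0
  simp [adj, rv, Matrix.mul_apply, Fin.sum_univ_four, ← hM] at hrow hcol
  have h4' : (4 : F) = 0 := by linear_combination 2 * h2
  have h6' : (6 : F) = 0 := by linear_combination 3 * h2
  ext i j
  fin_cases i <;> fin_cases j <;>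
    simp [ht, hE, adj, rv, Matrix.mul_apply, Fin.sum_univ_four, Matrix.trace,
      Cfsg.Lie.star4, Cfsg.Lie.pairOf, Matrix.one_apply, CharTwo.sub_eq_add] <;>
    ring_nf <;> (try simp only [h2, mul_zero, add_zero, zero_add, zero_mul]) <;>
    first
      | (linear_combination (norm := (ring_nf; simp [h2, h4', h6']; done)) (0 : F))
      | (linear_combination (norm := (ring_nf; simp [h2, h4', h6']; done)) hrow + hcol)

variable [Fintype F] {m : ℕ} (hm : 1 ≤ m) (hF : Fintype.card F = 2 ^ (2 * m + 1))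

/-- `G` abbreviates the group -/
abbrev SG := ↥(Cfsg.Lie.Sz F (stdTwist hF).e)

/-- the matrix of a member -/
def mat (g : SG hF) : Matrix (Fin 4) (Fin 4) F := ((g : GL (Fin 4) F) : Matrix (Fin 4) (Fin 4) F)

theorem mat_mul (g h : SG hF) : mat hF (g * h) = mat hF g * mat hF h := rfl

theorem mat_one : mat hF 1 = 1 := rfl

theorem mat_inj {g h : SG hF} (e : mat hF g = mat hF h) : g = h := Subtype.ext (Units.ext e)

theorem mat_pow (g : SG hF) (n : ℕ) : mat hF (g ^ n) = mat hF g ^ n := by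
  induction n with
  | zero => rw [pow_zero, pow_zero, mat_one]
  | succ n ih => rw [pow_succ, pow_succ, mat_mul, ih]

theorem prime_facts {p : ℕ} (hp : p.Prime) (hdvd : p ∣ (2 ^ (2 * m + 1)) ^ 2 + 1) :
    p ≠ 2 ∧ ∀ d, 1 ≤ d → d ≤ 3 → ¬ p ∣ (2 ^ (2 * m + 1)) ^ d - 1 := by
  set q := 2 ^ (2 * m + 1) with hq
  haveI := Fact.mk hp
  have hev : 2 ∣ q := dvd_pow_self 2 (by omega)
  have hp2 : p ≠ 2 := by
    rintro rfl
    have : 2 ∣ q ^ 2 := dvd_pow hev (by norm_num)
    omega
  refine ⟨hp2, fun d hd1 hd3 h => ?_⟩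
  have h2 : (2 : ZMod p) ≠ 0 := by
    intro h0
    have : ((2 : ℕ) : ZMod p) = 0 := by simpa using h0
    rw [ZMod.natCast_eq_zero_iff] at this
    exact hp2 ((Nat.prime_dvd_prime_iff_eq hp Nat.prime_two).mp this)
  have e1 : ((q : ZMod p)) ^ 2 = -1 := by
    have : ((q ^ 2 + 1 : ℕ) : ZMod p) = 0 := (ZMod.natCast_eq_zero_iff _ _).mpr hdvd
    push_cast at this
    linear_combination this
  have e2 : (q : ZMod p) ^ d = 1 := by
    have h1 : 1 ≤ q ^ d := Nat.one_le_pow _ _ (Nat.two_pow_pos _)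
    have : ((q ^ d - 1 : ℕ) : ZMod p) = 0 := (ZMod.natCast_eq_zero_iff _ _).mpr h
    rw [Nat.cast_sub h1] at this
    push_cast at this
    linear_combination this
  apply h2
  interval_cases d
  · rw [pow_one] at e2; rw [e2] at e1; linear_combination e1
  · rw [e2] at e1; linear_combination e1
  · rw [pow_succ, e1] at e2
    have : (q : ZMod p) = -1 := by linear_combination -e2
    rw [this] at e1; linear_combination e1

variable {p : ℕ} (hp : p.Prime) (hdvd : p ∣ (2 ^ (2 * m + 1)) ^ 2 + 1) {z : SG hF} (hz : orderOf z = p)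

include hp hdvd hz in
theorem no_fixed {v : Fin 4 → F} (hv : mat hF z *ᵥ v = v) : v = 0 := by
  by_contra h
  have h4 : z ^ 4 = 1 := Subtype.ext (Cfsg.Agent.SuzukiFix.pow_four_of_fix (m + 1) rfl z.2 h hv)
  have hd := orderOf_dvd_of_pow_eq_one h4
  rw [hz] at hd
  have : p ∣ 2 ^ 2 := by norm_num; exact hd
  exact (prime_facts hp hdvd).1 ((Nat.prime_dvd_prime_iff_eq hp Nat.prime_two).mp (hp.dvd_of_dvd_pow this))

include hp hdvd hz in
theorem minpoly_facts : Irreducible (minpoly F (mat hF z)) ∧ (minpoly F (mat hF z)).natDegree = 4 := by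
  classical
  haveI := Fact.mk hp
  set M := mat hF z with hM
  set μ := minpoly F M with hμ
  have hint : IsIntegral F M := Matrix.isIntegral M
  have hdeg : μ.natDegree ≤ 4 := by
    have h1 := Polynomial.natDegree_le_of_dvd (Matrix.minpoly_dvd_charpoly M) (M.charpoly_monic.ne_zero)
    rwa [Matrix.charpoly_natDegree_eq_dim, Fintype.card_fin] at h1
  have hμ0 : μ ≠ 0 := minpoly.ne_zero hint
  have hxp : μ ∣ X ^ p - 1 := by
    apply minpoly.dvd
    rw [map_sub, map_pow, Polynomial.aeval_X, map_one, ← mat_pow, ← hz, pow_orderOf_eq_one, mat_one, sub_self]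
  obtain ⟨f, hf, hfd⟩ := UniqueFactorizationMonoid.exists_mem_normalizedFactors hμ0
    (minpoly.not_isUnit F M) |> fun ⟨f, hf⟩ =>
      (⟨f, UniqueFactorizationMonoid.irreducible_of_normalized_factor f hf,
        UniqueFactorizationMonoid.dvd_of_mem_normalizedFactors hf⟩ : ∃ f, Irreducible f ∧ f ∣ μ)
  haveI := Fact.mk hf
  have hfdeg : 4 ≤ f.natDegree := by
    haveI : Module.Finite F (AdjoinRoot f) := (AdjoinRoot.powerBasis hf.ne_zero).finite
    haveI : Finite (AdjoinRoot f) := Module.finite_of_finite F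
    have hcard : Nat.card (AdjoinRoot f) = Fintype.card F ^ f.natDegree := by
      rw [Module.natCard_eq_pow_finrank (K := F), Nat.card_eq_fintype_card,
        (AdjoinRoot.powerBasis hf.ne_zero).finrank, AdjoinRoot.powerBasis_dim]
    have hr : (AdjoinRoot.root f) ^ p = 1 := by
      obtain ⟨g, hg⟩ := hfd.trans hxp
      have := congrArg (AdjoinRoot.mk f) hg
      simpa [AdjoinRoot.mk_X, sub_eq_zero] using this
    have hr1 : AdjoinRoot.root f ≠ 1 := by
      intro h1
      have hdvd1 : f ∣ X - 1 := by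
        rw [← AdjoinRoot.mk_eq_zero]; simp [AdjoinRoot.mk_X, h1]
      have hassoc : X - 1 ∣ f :=
        (hf.associated_of_dvd (by simpa using Polynomial.irreducible_X_sub_C (1 : F)) hdvd1).symm.dvd
      obtain ⟨ν, hν⟩ := hassoc.trans hfd
      have hν0 : Polynomial.aeval M ν = 0 := by
        by_contra hne
        obtain ⟨w, hw⟩ : ∃ w, Polynomial.aeval M ν *ᵥ w ≠ 0 := by
          by_contra hcon
          push Not at hcon
          exact hne (Matrix.ext fun i j => by simpa using congrFun (hcon (Pi.single j 1)) i)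
        apply hw
        apply no_fixed hF hp hdvd hz
        have h0 : Polynomial.aeval M μ = 0 := minpoly.aeval F M
        rw [hν, map_mul, map_sub, Polynomial.aeval_X, map_one, sub_mul, one_mul, sub_eq_zero] at h0
        rw [Matrix.mulVec_mulVec, ← hM, h0]
      have hν0' : ν ≠ 0 := fun h => hμ0 (by rw [hν, h, mul_zero])
      have h1' := minpoly.degree_le_of_ne_zero F M hν0' hν0
      have h2' := Polynomial.natDegree_le_natDegree h1'
      have hX : (X - 1 : Polynomial F).natDegree = 1 := by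
        simpa using Polynomial.natDegree_X_sub_C (1 : F)
      rw [← hμ, hν, Polynomial.natDegree_mul (fun h => by simp [h] at hX) hν0', hX] at h2'
      omega
    by_contra hlt
    push Not at hlt
    have hord : orderOf (AdjoinRoot.root f) = p := orderOf_eq_prime hr hr1
    have hne : AdjoinRoot.root f ≠ 0 := fun h => by rw [h, zero_pow hp.ne_zero] at hr; exact zero_ne_one hr
    haveI : Fintype (AdjoinRoot f) := Fintype.ofFinite _
    have hfl := FiniteField.pow_card_sub_one_eq_one (AdjoinRoot.root f) hne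
    have hd := orderOf_dvd_of_pow_eq_one hfl
    rw [hord, ← Nat.card_eq_fintype_card, hcard, hF] at hd
    exact (prime_facts hp hdvd).2 _ hf.natDegree_pos (by omega) hd
  have hle := Polynomial.natDegree_le_of_dvd hfd hμ0
  have hass : Associated f μ := Polynomial.associated_of_dvd_of_natDegree_le hfd hμ0 (by omega)
  exact ⟨hass.irreducible hf, by omega⟩

/-- the field attached to the element -/
abbrev KF := AdjoinRoot (minpoly F (mat hF z))

/-- the field as an algebra of matrices -/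
noncomputable def embed : KF hF (z := z) →ₐ[F] Matrix (Fin 4) (Fin 4) F :=
  { Ideal.Quotient.lift _ (Polynomial.aeval (mat hF z)).toRingHom (fun g hg => by
      obtain ⟨y, rfl⟩ := Ideal.mem_span_singleton.mp hg
      show Polynomial.aeval (mat hF z) (minpoly F (mat hF z) * y) = 0
      rw [map_mul, minpoly.aeval, zero_mul]) with
    commutes' := fun c => by
      show Polynomial.aeval (mat hF z) (C c) = _
      rw [Polynomial.aeval_C] }

theorem embed_mk (g : Polynomial F) :
    embed hF (z := z) (AdjoinRoot.mk _ g) = Polynomial.aeval (mat hF z) g := rfl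

include hp hdvd hz in
theorem commutant {A : Matrix (Fin 4) (Fin 4) F} (hA : A * mat hF z = mat hF z * A) :
    ∃ a : KF hF (z := z), embed hF a = A := by
  classical
  obtain ⟨hirr, hdeg⟩ := minpoly_facts hF hp hdvd hz
  haveI := Fact.mk hirr
  haveI : Module.Finite F (KF hF (z := z)) :=
    Module.Finite.of_basis (AdjoinRoot.powerBasis hirr.ne_zero).basis
  set e0 : Fin 4 → F := Pi.single 0 1 with he0
  let L : KF hF (z := z) →ₗ[F] (Fin 4 → F) :=
    { toFun := fun a => embed hF a *ᵥ e0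
      map_add' := fun a b => by rw [map_add, Matrix.add_mulVec]
      map_smul' := fun c a => by rw [map_smul, Matrix.smul_mulVec]; rfl }
  have hLi : Function.Injective L := by
    rw [injective_iff_map_eq_zero]
    intro a ha
    by_contra hne
    have h1 : embed hF a⁻¹ *ᵥ (embed hF a *ᵥ e0) = e0 := by
      rw [Matrix.mulVec_mulVec, ← map_mul, inv_mul_cancel₀ hne, map_one, Matrix.one_mulVec]
    rw [show embed hF a *ᵥ e0 = 0 from ha, Matrix.mulVec_zero] at h1
    have := congrFun h1 0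
    simp [he0] at this
  have hfr : Module.finrank F (KF hF (z := z)) = Module.finrank F (Fin 4 → F) := by
    rw [(AdjoinRoot.powerBasis hirr.ne_zero).finrank, AdjoinRoot.powerBasis_dim, hdeg, Module.finrank_pi,
      Fintype.card_fin]
  have hLs := (LinearMap.injective_iff_surjective_of_finrank_eq_finrank hfr).mp hLi
  obtain ⟨a, ha⟩ := hLs (A *ᵥ e0)
  refine ⟨a, ?_⟩
  have hcomm : ∀ b : KF hF (z := z), A * embed hF b = embed hF b * A := by
    intro b
    induction b using AdjoinRoot.induction_on with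
    | ih f =>
      rw [embed_mk]
      induction f using Polynomial.induction_on' with
      | add a b ha hb => rw [map_add, mul_add, add_mul, ha, hb]
      | monomial n c =>
        rw [Polynomial.aeval_monomial, ← mul_assoc, ← Algebra.commutes, mul_assoc,
          ((show Commute A (mat hF z) from hA).pow_right n).eq, ← mul_assoc]
  have hvec : ∀ w : Fin 4 → F, embed hF a *ᵥ w = A *ᵥ w := by
    intro w
    obtain ⟨b, rfl⟩ := hLs w
    show embed hF a *ᵥ (embed hF b *ᵥ e0) = A *ᵥ (embed hF b *ᵥ e0)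
    rw [Matrix.mulVec_mulVec, Matrix.mulVec_mulVec, hcomm, ← map_mul, mul_comm, map_mul,
      ← Matrix.mulVec_mulVec, ← Matrix.mulVec_mulVec]
    exact congrArg (embed hF b *ᵥ ·) ha
  exact Matrix.ext fun i j => by simpa using congrFun (hvec (Pi.single j 1)) i

include hp hdvd hz in
theorem exists_char : ∃ ψ : Subgroup.centralizer ({z} : Set (SG hF)) →* KF hF (z := z),
    Function.Injective ψ ∧ ∀ g, embed hF (ψ g) = mat hF g.1 := by
  classical
  obtain ⟨hirr, hdeg⟩ := minpoly_facts hF hp hdvd hz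
  haveI := Fact.mk hirr
  have hc : ∀ g : Subgroup.centralizer ({z} : Set (SG hF)), ∃ a, embed hF (z := z) a = mat hF g.1 := fun g =>
    commutant hF hp hdvd hz (by
      rw [← mat_mul, ← mat_mul, Subgroup.mem_centralizer_singleton_iff.mp g.2])
  choose ψ hψ using hc
  have hinj : Function.Injective (embed hF (z := z)) := (embed hF (z := z)).toRingHom.injective
  refine ⟨{ toFun := ψ, map_one' := hinj (by rw [hψ, map_one]; rfl),
            map_mul' := fun g h => hinj (by rw [hψ, map_mul, hψ, hψ]; rfl) }, ?_, hψ⟩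
  intro g h e
  apply Subtype.ext
  apply mat_inj hF
  rw [← hψ g, ← hψ h]
  exact congrArg _ e

include hp hdvd hz in
theorem cent_cyclic : IsCyclic (Subgroup.centralizer ({z} : Set (SG hF))) := by
  haveI := Fact.mk (minpoly_facts hF hp hdvd hz).1
  obtain ⟨ψ, hψ, -⟩ := exists_char hF hp hdvd hz
  exact isCyclic_of_injective_ringHom ψ hψ

include hp hdvd hz in
theorem exponent_cases (g : SG hF) (hg : g * z = z * g)
    (hgo : g ^ ((2 ^ (2 * m + 1)) ^ 2 + 1) = 1) :
    g ^ (2 ^ (2 * m + 1) + 2 ^ (m + 1) + 1) = 1 ∨ g ^ (2 ^ (2 * m + 1) - 2 ^ (m + 1) + 1) = 1 := by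
  classical
  haveI := Fact.mk (minpoly_facts hF hp hdvd hz).1
  set q := 2 ^ (2 * m + 1) with hq
  set e := 2 ^ (m + 1) with he
  have hee : e * e = 2 * q := by rw [hq, he, ← pow_add, ← pow_succ']; congr 1; ring
  have heq : e ≤ q := by rw [he, hq]; exact Nat.pow_le_pow_right (by norm_num) (by omega)
  obtain ⟨ψ, hψi, hψ⟩ := exists_char hF hp hdvd hz
  set gc : Subgroup.centralizer ({z} : Set (SG hF)) := ⟨g, Subgroup.mem_centralizer_singleton_iff.mpr hg⟩
  haveI : CharP (KF hF (z := z)) 2 := charP_of_injective_algebraMap (algebraMap F _).injective 2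
  have hinj : Function.Injective (embed hF (z := z)) := (embed hF (z := z)).toRingHom.injective
  set a : (KF hF (z := z))ˣ := ψ.toHomUnits gc with ha
  have haval : (a : KF hF (z := z)) = ψ gc := rfl
  have hdown : ∀ n : ℕ, a ^ n = 1 → g ^ n = 1 := by
    intro n hn
    have h1 : ψ (gc ^ n) = ψ 1 := by
      rw [map_pow, map_one, ← haval, ← Units.val_pow_eq_pow_val, hn, Units.val_one]
    exact congrArg Subtype.val (hψi h1)
  have haN : a ^ (q ^ 2 + 1) = 1 := by
    rw [ha, ← map_pow, show gc ^ (q ^ 2 + 1) = 1 from Subtype.ext hgo, map_one]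
  obtain ⟨t, ht⟩ := quad (stdTwist hF) g
  set x : KF hF (z := z) := (a : KF hF (z := z)) + ((a⁻¹ : (KF hF (z := z))ˣ) : KF hF (z := z)) with hx
  have hx' : embed hF x = mat hF g + mat hF g⁻¹ := by
    rw [hx, map_add, haval, hψ, ha, ← map_inv]
    show mat hF g + embed hF (ψ gc⁻¹) = _
    rw [hψ]
    rfl
  have hquad : x * x + t • x + algebraMap F _ (t ^ e) = 0 := by
    apply hinj
    rw [map_add, map_add, map_mul, map_smul, map_zero, hx', AlgHom.commutes, Algebra.algebraMap_eq_smul_one]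
    rw [(stdTwist hF).th_apply] at ht
    exact ht
  set T : KF hF (z := z) := algebraMap F _ t with hT
  rw [map_pow, ← hT, Algebra.smul_def, ← hT] at hquad
  have hqF : ∀ c : F, c ^ q = c := fun c => by
    have := FiniteField.pow_card c
    rwa [hF] at this
  have hTq : T ^ q = T := by rw [hT, ← map_pow, hqF]
  have hTee : (T ^ e) ^ e = T ^ 2 := by
    rw [hT, ← map_pow, ← map_pow, show (t ^ e) ^ e = t ^ 2 from (stdTwist hF).hsq t, map_pow]
  have addq : ∀ u v : KF hF (z := z), (u + v) ^ q = u ^ q + v ^ q := fun u v => by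
    rw [hq]; exact add_pow_char_pow u v 2 _
  have adde : ∀ u v : KF hF (z := z), (u + v) ^ e = u ^ e + v ^ e := fun u v => by
    rw [he]; exact add_pow_char_pow u v 2 _
  have h2K : (2 : KF hF (z := z)) = 0 := CharTwo.two_eq_zero
  have hoddN : ∀ {n : ℕ}, a ^ (2 ^ n) = 1 → a = 1 := by
    intro n hn
    have hd1 : orderOf a ∣ 2 ^ n := orderOf_dvd_of_pow_eq_one hn
    have hd2 : orderOf a ∣ q ^ 2 + 1 := orderOf_dvd_of_pow_eq_one haN
    have hco : Nat.Coprime (2 ^ n) (q ^ 2 + 1) := by
      apply Nat.Coprime.pow_left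
      rw [Nat.prime_two.coprime_iff_not_dvd]
      have : 2 ∣ q ^ 2 := dvd_pow (dvd_pow_self 2 (by omega)) (by norm_num)
      omega
    exact orderOf_eq_one_iff.mp (Nat.eq_one_of_dvd_coprimes hco hd1 hd2)
  have key : ∀ u v : (KF hF (z := z))ˣ, (u : KF hF (z := z)) + (u⁻¹ : (KF hF (z := z))ˣ) =
      (v : KF hF (z := z)) + (v⁻¹ : (KF hF (z := z))ˣ) → u = v ∨ u = v⁻¹ := by
    intro u v h
    have h1 : ((u : KF hF (z := z)) - v) * ((u : KF hF (z := z)) * v - 1) = 0 := by
      have hu := u.mul_inv; have hv := v.mul_inv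
      linear_combination (u : KF hF (z := z)) * v * h - (v : KF hF (z := z)) * hu + (u : KF hF (z := z)) * hv
    rcases mul_eq_zero.mp h1 with h2 | h2
    · exact Or.inl (Units.ext (sub_eq_zero.mp h2))
    · exact Or.inr (eq_inv_of_mul_eq_one_left (Units.ext (sub_eq_zero.mp h2)))
  by_cases hxq : x ^ q = x
  · -- the degenerate case
    left
    have hxb : x = ((a ^ q : (KF hF (z := z))ˣ) : KF hF (z := z)) + ((a ^ q)⁻¹ : (KF hF (z := z))ˣ) := by
      rw [← hxq, hx, addq, ← inv_pow, Units.val_pow_eq_pow_val, Units.val_pow_eq_pow_val]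
    have ha1 : a = 1 := by
      rcases key _ _ (hx ▸ hxb) with h | h
      · have h2 : a ^ (q ^ 2) = a := by rw [pow_two, pow_mul, ← h, ← h]
        rw [pow_succ, h2] at haN
        exact hoddN (n := 1) (by rw [pow_one, pow_two]; exact haN)
      · have h2 : a ^ (q ^ 2) = a := by
          have h3 : a ^ q = a⁻¹ := (inv_eq_iff_eq_inv.mpr h).symm
          rw [pow_two, pow_mul, h3, inv_pow, h3, inv_inv]
        rw [pow_succ, h2] at haN
        exact hoddN (n := 1) (by rw [pow_one, pow_two]; exact haN)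
    apply hdown
    rw [ha1, one_pow]
  set y := x ^ q with hy
  have hyquad : y * y + T * y + T ^ e = 0 := by
    have := congrArg (· ^ q) hquad
    have hq0 : q ≠ 0 := (Nat.two_pow_pos _).ne'
    have hTeq : (T ^ e) ^ q = T ^ e := by rw [← pow_mul T e q, mul_comm e q, pow_mul, hTq]
    simpa only [addq, mul_pow, zero_pow hq0, hTq, hTeq, ← hy] using this
  have hxy : x + y = T := by
    have h : (x - y) * (x + y + T) = 0 := by linear_combination hquad - hyquad
    rcases mul_eq_zero.mp h with h | h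
    · exact absurd (sub_eq_zero.mp h).symm hxq
    · exact CharTwo.add_eq_zero.mp h
  have hprod : x * y = T ^ e := by
    rw [← hxy] at hquad ⊢
    linear_combination -hquad + (x * x + x * y) * h2K
  have hs1 : x ^ e + y ^ e = x * y := by
    rw [hprod, ← hxy]
    exact (adde x y).symm
  have hp1 : x ^ e * y ^ e = (x + y) ^ 2 := by rw [← mul_pow, hprod, hTee, hxy]
  set b : (KF hF (z := z))ˣ := a ^ q with hb
  have hyb : y = (b : KF hF (z := z)) + ((b⁻¹ : (KF hF (z := z))ˣ) : KF hF (z := z)) := by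
    rw [hy, hx, addq, hb, ← inv_pow, Units.val_pow_eq_pow_val, Units.val_pow_eq_pow_val]
  have hxe : x ^ e = ((a ^ e : (KF hF (z := z))ˣ) : KF hF (z := z)) + ((a ^ e)⁻¹ : (KF hF (z := z))ˣ) := by
    rw [hx, adde, ← inv_pow, Units.val_pow_eq_pow_val, Units.val_pow_eq_pow_val]
  set P := ((a * b : (KF hF (z := z))ˣ) : KF hF (z := z)) + ((a * b)⁻¹ : (KF hF (z := z))ˣ) with hP
  set Q := ((a * b⁻¹ : (KF hF (z := z))ˣ) : KF hF (z := z)) + ((a * b⁻¹)⁻¹ : (KF hF (z := z))ˣ) with hQ
  have hPQs : P + Q = x * y := by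
    rw [hP, hQ, hyb, hx, mul_inv, mul_inv, inv_inv]
    simp only [Units.val_mul]
    ring
  have hPQp : P * Q = (x + y) ^ 2 := by
    rw [hP, hQ, hyb, hx, mul_inv, mul_inv, inv_inv]
    simp only [Units.val_mul]
    have hu := a.mul_inv; have hv := b.mul_inv
    linear_combination (norm := (ring_nf; simp [h2K]; try ring))
      ((b : KF hF (z := z)) ^ 2 + ((b⁻¹ : (KF hF (z := z))ˣ) : KF hF (z := z)) ^ 2) * hu +
      ((a : KF hF (z := z)) ^ 2 + ((a⁻¹ : (KF hF (z := z))ˣ) : KF hF (z := z)) ^ 2) * hv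
  have hroot : (x ^ e - P) * (x ^ e - Q) = 0 := by
    linear_combination x ^ e * (hs1 - hPQs) - hp1 + hPQp
  have haNz : a ^ ((q : ℤ) ^ 2 + 1) = 1 := by
    rw [show ((q : ℤ) ^ 2 + 1) = ((q ^ 2 + 1 : ℕ) : ℤ) by push_cast; ring, zpow_natCast, haN]
  have hbad : ∀ s : ℤ, s * s = 1 → a ^ (e : ℤ) = a ^ (s * (1 - (q : ℤ))) → a = 1 := by
    intro s hs h
    have h1 : a ^ ((e : ℤ) * e) = a ^ (s * (1 - (q : ℤ)) * (s * (1 - (q : ℤ)))) :=
      calc a ^ ((e : ℤ) * e) = (a ^ (e : ℤ)) ^ (e : ℤ) := zpow_mul a _ _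
        _ = (a ^ (s * (1 - (q : ℤ)))) ^ (e : ℤ) := by rw [h]
        _ = (a ^ (e : ℤ)) ^ (s * (1 - (q : ℤ))) := by rw [← zpow_mul, ← zpow_mul, mul_comm]
        _ = _ := by rw [h, ← zpow_mul]
    have h2 : a ^ (4 * (q : ℤ)) = 1 := by
      have e1 : (e : ℤ) * e = 2 * q := by exact_mod_cast hee
      rw [e1, show s * (1 - (q : ℤ)) * (s * (1 - (q : ℤ))) = s * s * (1 - (q : ℤ)) ^ 2 by ring, hs, one_mul] at h1
      rw [show 4 * (q : ℤ) = 2 * q - (1 - (q : ℤ)) ^ 2 + ((q : ℤ) ^ 2 + 1) by ring, zpow_add, zpow_sub, h1,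
        mul_inv_cancel, one_mul, haNz]
    apply hoddN (n := 2 * m + 1 + 2)
    rw [pow_add, ← hq, show q * 2 ^ 2 = 4 * q by ring, ← zpow_natCast]
    push_cast
    exact h2
  rcases mul_eq_zero.mp hroot with h | h
  · rw [sub_eq_zero, hxe, hP] at h
    rcases key _ _ h with h | h
    · -- a ^ e = a * a ^ q
      right
      apply hdown
      apply mul_right_cancel (b := a ^ e)
      rw [one_mul, ← pow_add, show q - e + 1 + e = 1 + q by omega, pow_add, pow_one, h]
    · left
      apply hdown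
      rw [show q + e + 1 = e + (1 + q) by omega, pow_add, h, pow_add, pow_one, inv_mul_cancel]
  · rw [sub_eq_zero, hxe, hQ] at h
    rcases key _ _ h with h | h
    · have : a = 1 := hbad 1 (by norm_num) (by
        rw [zpow_natCast, h, one_mul, zpow_sub, zpow_one, zpow_natCast])
      exact Or.inl (hdown _ (by rw [this, one_pow]))
    · have : a = 1 := hbad (-1) (by norm_num) (by
        rw [zpow_natCast, h, show (-1 : ℤ) * (1 - (q : ℤ)) = -(1 - (q : ℤ)) by ring, zpow_neg, zpow_sub,
          zpow_one, zpow_natCast])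
      exact Or.inl (hdown _ (by rw [this, one_pow]))

end Cfsg.Agent.SzC
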