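import Mathlib
import Cfsg.Agent.Lib.SzC.Singer

/-!
# Elements of prime order and their centralisers
-/

set_option autoImplicit false

open scoped Matrix

namespace Cfsg.Agent.SzC

open Cfsg.Agent.SzB

variable {F : Type*} [Field F] [CharP F 2] [Fintype F] {m : ℕ} (hF : Fintype.card F = 2 ^ (2 * m + 1))

theorem card_SG : Nat.card (SG hF) =
    (2 ^ (2 * m + 1)) ^ 2 * (2 ^ (2 * m + 1) - 1) * ((2 ^ (2 * m + 1)) ^ 2 + 1) := by
  rw [card_group, hF]

instance : Finite (SG hF) := Subtype.finite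

theorem pieces_coprime :
    Nat.Coprime ((2 ^ (2 * m + 1)) ^ 2) (2 ^ (2 * m + 1) - 1) ∧
    Nat.Coprime ((2 ^ (2 * m + 1)) ^ 2) ((2 ^ (2 * m + 1)) ^ 2 + 1) ∧
    Nat.Coprime (2 ^ (2 * m + 1) - 1) ((2 ^ (2 * m + 1)) ^ 2 + 1) := by
  set q := 2 ^ (2 * m + 1) with hq
  have hev : 2 ∣ q := dvd_pow_self 2 (by omega)
  have hpos : 1 ≤ q := Nat.one_le_two_pow
  refine ⟨?_, ?_, ?_⟩
  · rw [hq, ← pow_mul]
    apply Nat.Coprime.pow_left
    rw [Nat.prime_two.coprime_iff_not_dvd, ← hq]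
    omega
  · exact Nat.coprime_self_add_right.mpr (Nat.coprime_one_right _)
  · apply Nat.coprime_of_dvd
    intro r hr h1 h2
    haveI := Fact.mk hr
    have e1 : (q : ZMod r) = 1 := by
      have : ((q - 1 : ℕ) : ZMod r) = 0 := (ZMod.natCast_eq_zero_iff _ _).mpr h1
      rw [Nat.cast_sub hpos] at this
      push_cast at this
      linear_combination this
    have e2 : ((q ^ 2 + 1 : ℕ) : ZMod r) = 0 := (ZMod.natCast_eq_zero_iff _ _).mpr h2
    push_cast at e2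
    rw [e1] at e2
    have : ((2 : ℕ) : ZMod r) = 0 := by push_cast; linear_combination e2
    rw [ZMod.natCast_eq_zero_iff] at this
    have hr2 : r = 2 := (Nat.prime_dvd_prime_iff_eq hr Nat.prime_two).mp this
    subst hr2
    omega

theorem eq_one_of_coprime {G : Type*} [Group G] {g : G} {a b : ℕ} (hab : Nat.Coprime a b)
    (ha : g ^ a = 1) (hb : g ^ b = 1) : g = 1 :=
  orderOf_eq_one_iff.mp (Nat.eq_one_of_dvd_coprimes hab (orderOf_dvd_of_pow_eq_one ha) (orderOf_dvd_of_pow_eq_one hb))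

theorem prime_trichotomy {r : ℕ} (hr : r.Prime) (h : r ∣ Nat.card (SG hF)) :
    r = 2 ∨ r ∣ 2 ^ (2 * m + 1) - 1 ∨ r ∣ (2 ^ (2 * m + 1)) ^ 2 + 1 := by
  rw [card_SG] at h
  rcases hr.dvd_mul.mp h with h | h
  · rcases hr.dvd_mul.mp h with h | h
    · exact Or.inl ((Nat.prime_dvd_prime_iff_eq hr Nat.prime_two).mp (hr.dvd_of_dvd_pow (hr.dvd_of_dvd_pow h)))
    · exact Or.inr (Or.inl h)
  · exact Or.inr (Or.inr h)

theorem unip_pow {x : SG hF} (hx : x ∈ unip (stdTwist hF)) : x ^ ((2 ^ (2 * m + 1)) ^ 2) = 1 := by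
  have : (⟨x, hx⟩ : unip (stdTwist hF)) ^ Nat.card (unip (stdTwist hF)) = 1 := pow_card_eq_one'
  rw [card_unip, hF] at this
  exact congrArg Subtype.val this

theorem torus_pow {x : SG hF} (hx : x ∈ (tS (stdTwist hF)).range) : x ^ (2 ^ (2 * m + 1) - 1) = 1 := by
  have : (⟨x, hx⟩ : (tS (stdTwist hF)).range) ^ Nat.card (tS (stdTwist hF)).range = 1 := pow_card_eq_one'
  rw [card_torus, hF] at this
  exact congrArg Subtype.val this

theorem involution_cases {w : SG hF} (hw : orderOf w = 2) :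
    ∃ g : SG hF, ∀ x : SG hF, x * w = w * x → g⁻¹ * x * g ∈ unip (stdTwist hF) := by
  haveI : Fact (Nat.Prime 2) := ⟨Nat.prime_two⟩
  set τ := stdTwist hF
  have hp : IsPGroup 2 (Subgroup.zpowers w) := IsPGroup.of_card (n := 1) (by rw [Nat.card_zpowers, hw, pow_one])
  obtain ⟨P, hP⟩ := hp.exists_le_sylow
  obtain ⟨g, hg⟩ := MulAction.exists_smul_eq (SG hF) (sylTwo hF τ) P
  have hwP : w ∈ (P : Subgroup (SG hF)) := hP (Subgroup.mem_zpowers w)
  rw [← hg, Sylow.coe_subgroup_smul, Subgroup.mem_pointwise_smul_iff_inv_smul_mem, sylTwo_coe] at hwP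
  have hwP' : g⁻¹ * w * g ∈ unip τ := by simpa [MulAut.inv_apply] using hwP
  obtain ⟨a, b, hab⟩ := hwP'
  have hsq : uS τ a b ^ 2 = 1 := by
    rw [← hab, pow_two]
    have h2 : w * w = 1 := by rw [← pow_two, ← hw, pow_orderOf_eq_one]
    calc g⁻¹ * w * g * (g⁻¹ * w * g) = g⁻¹ * (w * w) * g := by group
      _ = 1 := by rw [h2]; group
  have ha := SzO.sq_eq_one τ hsq
  subst ha
  have hb : b ≠ 0 := by
    rintro rfl
    rw [uS_zero] at hab
    have : w = 1 := by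
      calc w = g * (g⁻¹ * w * g) * g⁻¹ := by group
        _ = 1 := by rw [hab]; group
    rw [this, orderOf_one] at hw
    norm_num at hw
  refine ⟨g, fun x hx => cent_center τ hb ?_⟩
  rw [← hab]
  calc g⁻¹ * x * g * (g⁻¹ * w * g) = g⁻¹ * (x * w) * g := by group
    _ = g⁻¹ * (w * x) * g := by rw [hx]
    _ = _ := by group

theorem split_sylow {r : ℕ} [Fact r.Prime] (hr : r ∣ 2 ^ (2 * m + 1) - 1) :
    ∃ R : Sylow r (SG hF), (R : Subgroup (SG hF)) ≤ (tS (stdTwist hF)).range := by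
  classical
  set T := (tS (stdTwist hF)).range
  obtain ⟨S⟩ : Nonempty (Sylow r T) := inferInstance
  obtain ⟨h1, h2, h3⟩ := pieces_coprime (m := m)
  have hnd : ∀ n : ℕ, Nat.Coprime (2 ^ (2 * m + 1) - 1) n → ¬ r ∣ n := fun n hn h => by
    have := Nat.dvd_gcd hr h
    rw [hn] at this
    exact (Fact.out : r.Prime).not_dvd_one this
  have hfac : (Nat.card (SG hF)).factorization r = (Nat.card T).factorization r := by
    have hpos : 1 < 2 ^ (2 * m + 1) := Nat.one_lt_two_pow (by omega)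
    rw [card_SG, card_torus, hF, Nat.factorization_mul (Nat.mul_ne_zero (by positivity) (by omega)) (by positivity),
      Nat.factorization_mul (by positivity) (by omega)]
    simp only [Finsupp.add_apply]
    rw [Nat.factorization_eq_zero_of_not_dvd (hnd _ h1.symm), Nat.factorization_eq_zero_of_not_dvd (hnd _ h3)]
    simp
  refine ⟨Sylow.ofCard ((S : Subgroup T).map T.subtype) ?_, ?_⟩
  · rw [Subgroup.card_map_of_injective T.subtype_injective, hfac]
    exact S.card_eq_multiplicity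
  · exact Subgroup.map_subtype_le _

theorem split_cases {r : ℕ} [Fact r.Prime] (hr : r ∣ 2 ^ (2 * m + 1) - 1) {w : SG hF} (hw : orderOf w = r) :
    ∃ g : SG hF, ∀ x : SG hF, x * w = w * x → g⁻¹ * x * g ∈ (tS (stdTwist hF)).range := by
  set τ := stdTwist hF
  have hp : IsPGroup r (Subgroup.zpowers w) := IsPGroup.of_card (n := 1) (by rw [Nat.card_zpowers, hw, pow_one])
  obtain ⟨P, hP⟩ := hp.exists_le_sylow
  obtain ⟨R, hR⟩ := split_sylow hF hr
  obtain ⟨g, hg⟩ := MulAction.exists_smul_eq (SG hF) R P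
  have hwP : w ∈ (P : Subgroup (SG hF)) := hP (Subgroup.mem_zpowers w)
  rw [← hg, Sylow.coe_subgroup_smul, Subgroup.mem_pointwise_smul_iff_inv_smul_mem] at hwP
  have hwP' : g⁻¹ * w * g ∈ (tS τ).range := hR (by simpa [MulAut.inv_apply] using hwP)
  obtain ⟨v, hv⟩ := hwP'
  have hv1 : v ≠ 1 := by
    rintro rfl
    rw [map_one] at hv
    have : w = 1 := by
      calc w = g * (g⁻¹ * w * g) * g⁻¹ := by group
        _ = 1 := by rw [← hv]; group
    rw [this, orderOf_one] at hw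
    exact (Fact.out : r.Prime).ne_one hw.symm
  refine ⟨g, fun x hx => cent_torus τ hv1 ?_⟩
  rw [hv]
  calc g⁻¹ * x * g * (g⁻¹ * w * g) = g⁻¹ * (x * w) * g := by group
    _ = g⁻¹ * (w * x) * g := by rw [hx]
    _ = _ := by group

theorem conj_pow_eq_one {G : Type*} [Group G] {g x : G} {n : ℕ} (h : (g⁻¹ * x * g) ^ n = 1) : x ^ n = 1 := by
  have e : g⁻¹ * x * g = MulAut.conj g⁻¹ x := by simp
  rw [e, ← map_pow] at h
  exact (MulEquiv.map_eq_one_iff _).mp h

theorem exists_prime_power {G : Type*} [Group G] [Finite G] {g : G} (hg : g ≠ 1) :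
    ∃ r w, Nat.Prime r ∧ orderOf w = r ∧ w ∈ Subgroup.zpowers g := by
  obtain ⟨r, hr, hd⟩ := Nat.exists_prime_and_dvd (show orderOf g ≠ 1 from fun h => hg (orderOf_eq_one_iff.mp h))
  refine ⟨r, g ^ (orderOf g / r), hr, ?_, Subgroup.npow_mem_zpowers g _⟩
  exact orderOf_pow_orderOf_div (orderOf_pos g).ne' hd

variable {p : ℕ} (hp : p.Prime) (hdvd : p ∣ (2 ^ (2 * m + 1)) ^ 2 + 1) {z : SG hF} (hz : orderOf z = p)

include hp hdvd hz in
theorem singer_card_dvd : Nat.card (Subgroup.centralizer ({z} : Set (SG hF))) ∣ (2 ^ (2 * m + 1)) ^ 2 + 1 := by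
  set U := Subgroup.centralizer ({z} : Set (SG hF)) with hU
  obtain ⟨h1, h2, h3⟩ := pieces_coprime (m := m)
  have hzd : ∀ {n}, Nat.Coprime n ((2 ^ (2 * m + 1)) ^ 2 + 1) → z ^ n ≠ 1 := by
    intro n hn hzn
    have := Nat.eq_one_of_dvd_coprimes hn (hz ▸ orderOf_dvd_of_pow_eq_one hzn) hdvd
    exact hp.ne_one this
  have hd : Nat.card U ∣ (2 ^ (2 * m + 1)) ^ 2 * (2 ^ (2 * m + 1) - 1) * ((2 ^ (2 * m + 1)) ^ 2 + 1) := by
    rw [← card_SG hF]; exact U.card_subgroup_dvd_card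
  refine (Nat.Coprime.dvd_mul_left ?_).mp hd
  apply Nat.coprime_of_dvd
  intro r hr hrU hr2
  haveI := Fact.mk hr
  obtain ⟨w, hw⟩ := exists_prime_orderOf_dvd_card' (G := U) r hrU
  have hw' : orderOf (w : SG hF) = r := by rw [Subgroup.orderOf_coe]; exact hw
  have hcomm : z * (w : SG hF) = (w : SG hF) * z := (Subgroup.mem_centralizer_singleton_iff.mp w.2).symm
  rcases hr.dvd_mul.mp hr2 with h | h
  · have hr' : r = 2 := (Nat.prime_dvd_prime_iff_eq hr Nat.prime_two).mp (hr.dvd_of_dvd_pow (hr.dvd_of_dvd_pow h))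
    subst hr'
    obtain ⟨g, hg⟩ := involution_cases hF hw'
    exact hzd h2 (conj_pow_eq_one (unip_pow hF (hg z hcomm)))
  · obtain ⟨g, hg⟩ := split_cases hF h hw'
    exact hzd h3 (conj_pow_eq_one (torus_pow hF (hg z hcomm)))

theorem cent_pow_cases {r : ℕ} (hr : r.Prime) {w : SG hF} (hw : orderOf w = r) {x : SG hF}
    (hx : x * w = w * x) :
    (r = 2 ∧ x ^ ((2 ^ (2 * m + 1)) ^ 2) = 1) ∨
    (r ∣ 2 ^ (2 * m + 1) - 1 ∧ x ^ (2 ^ (2 * m + 1) - 1) = 1) ∨
    (r ∣ (2 ^ (2 * m + 1)) ^ 2 + 1 ∧ x ^ ((2 ^ (2 * m + 1)) ^ 2 + 1) = 1) := by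
  haveI := Fact.mk hr
  rcases prime_trichotomy hF hr (hw ▸ orderOf_dvd_natCard w) with h | h | h
  · subst h
    obtain ⟨g, hg⟩ := involution_cases hF hw
    exact Or.inl ⟨rfl, conj_pow_eq_one (unip_pow hF (hg x hx))⟩
  · obtain ⟨g, hg⟩ := split_cases hF h hw
    exact Or.inr (Or.inl ⟨h, conj_pow_eq_one (torus_pow hF (hg x hx))⟩)
  · refine Or.inr (Or.inr ⟨h, ?_⟩)
    have hc := singer_card_dvd hF hr h hw
    have : (⟨x, Subgroup.mem_centralizer_singleton_iff.mpr hx⟩ : Subgroup.centralizer ({w} : Set (SG hF))) ^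
        ((2 ^ (2 * m + 1)) ^ 2 + 1) = 1 :=
      orderOf_dvd_iff_pow_eq_one.mp ((orderOf_dvd_natCard _).trans hc)
    exact congrArg Subtype.val this

end Cfsg.Agent.SzC
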