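import Mathlib
import Cfsg.Agent.Lib.SzC.Primes

/-!
# The two classes of exceptional cyclic subgroups
-/

set_option autoImplicit false

open scoped Matrix

namespace Cfsg.Agent.SzC

open Cfsg.Agent.SzB

/-- the union of the conjugates of a subgroup, without the identity -/
def conjSet {G : Type*} [Group G] (U : Subgroup G) : Set G :=
  {x | x ≠ 1 ∧ ∃ g : G, g⁻¹ * x * g ∈ U}

theorem card_conjSet {G : Type*} [Group G] [Finite G] (U N : Subgroup G)
    (hN : ∀ g ∈ N, ∀ u ∈ U, g * u * g⁻¹ ∈ U)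
    (hti : ∀ g u, u ∈ U → u ≠ 1 → g * u * g⁻¹ ∈ U → g ∈ N) :
    (conjSet U).ncard = N.index * (Nat.card U - 1) := by
  classical
  let f : (G ⧸ N) × {u : U // (u : G) ≠ 1} → conjSet U := fun x =>
    ⟨x.1.out * (x.2.1 : G) * x.1.out⁻¹, fun h => x.2.2 (by
      calc (x.2.1 : G) = x.1.out⁻¹ * (x.1.out * (x.2.1 : G) * x.1.out⁻¹) * x.1.out := by group
        _ = 1 := by rw [h]; group), x.1.out, by
      convert x.2.1.2 using 1
      group⟩
  have hf : Function.Bijective f := by
    constructor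
    · rintro ⟨a, ⟨u, hu⟩⟩ ⟨b, ⟨v, hv⟩⟩ h
      have h' : a.out * (u : G) * a.out⁻¹ = b.out * (v : G) * b.out⁻¹ := congrArg Subtype.val h
      have hab : a = b := by
        rw [← a.out_eq, ← b.out_eq]
        refine QuotientGroup.eq.mpr ?_
        apply hti _ _ v.2 hv
        have : a.out⁻¹ * b.out * (v : G) * (a.out⁻¹ * b.out)⁻¹ = (u : G) := by
          calc a.out⁻¹ * b.out * (v : G) * (a.out⁻¹ * b.out)⁻¹
              = a.out⁻¹ * (b.out * (v : G) * b.out⁻¹) * a.out := by group
            _ = _ := by rw [← h']; group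
        rw [this]; exact u.2
      subst hab
      have : (u : G) = v := mul_left_cancel (mul_right_cancel h')
      obtain rfl : u = v := Subtype.ext this
      rfl
    · rintro ⟨x, hx1, g, hg⟩
      obtain ⟨n, hn⟩ := QuotientGroup.mk_out_eq_mul N g
      have hmem : (QuotientGroup.mk g : G ⧸ N).out⁻¹ * x * (QuotientGroup.mk g : G ⧸ N).out ∈ U := by
        rw [hn]
        have := hN _ (inv_mem n.2) _ hg
        simpa [mul_assoc] using this
      refine ⟨⟨QuotientGroup.mk g, ⟨⟨_, hmem⟩, fun h => hx1 ?_⟩⟩, Subtype.ext ?_⟩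
      · have h' : (QuotientGroup.mk g : G ⧸ N).out⁻¹ * x * (QuotientGroup.mk g : G ⧸ N).out = 1 := h
        set o := (QuotientGroup.mk g : G ⧸ N).out
        calc x = o * (o⁻¹ * x * o) * o⁻¹ := by group
          _ = 1 := by rw [h']; group
      · show (QuotientGroup.mk g : G ⧸ N).out * _ * _ = x
        group
  have h1 : Nat.card {u : U // (u : G) ≠ 1} = Nat.card U - 1 := by
    have : Nat.card U = Nat.card {u : U // (u : G) ≠ 1} + 1 := by
      rw [← Nat.card_congr (Equiv.sumCompl (fun u : U => (u : G) ≠ 1)), Nat.card_sum]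
      congr 1
      haveI : Unique {u : U // ¬ (u : G) ≠ 1} :=
        ⟨⟨⟨1, fun h => h rfl⟩⟩, fun ⟨u, hu⟩ => Subtype.ext (Subtype.ext (not_not.mp hu))⟩
      exact Nat.card_unique
    omega
  rw [← Nat.card_coe_set_eq, ← Nat.card_congr (Equiv.ofBijective f hf), Nat.card_prod, h1]
  rfl

variable {F : Type*} [Field F] [CharP F 2] [Fintype F] {m : ℕ} (hm : 1 ≤ m)
  (hF : Fintype.card F = 2 ^ (2 * m + 1))

theorem count_identities :
    ∃ kp km : ℕ, kp = 2 ^ (2 * m + 1) + 2 ^ (m + 1) + 1 ∧ km = 2 ^ (2 * m + 1) - 2 ^ (m + 1) + 1 ∧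
      kp * km = (2 ^ (2 * m + 1)) ^ 2 + 1 ∧ kp + km = 2 * 2 ^ (2 * m + 1) + 2 ∧ Nat.Coprime kp km ∧
      (1 ≤ m → 5 ≤ km ∧ 5 ≤ kp) := by
  set q := 2 ^ (2 * m + 1) with hq
  set e := 2 ^ (m + 1) with he
  have hee : e * e = 2 * q := by rw [hq, he, ← pow_add, ← pow_succ']; congr 1; ring
  have heq : e ≤ q := by rw [he, hq]; exact Nat.pow_le_pow_right (by norm_num) (by omega)
  refine ⟨q + e + 1, q - e + 1, rfl, rfl, ?_, by omega, ?_, fun hm => ?_⟩
  · obtain ⟨d, hd⟩ := Nat.exists_eq_add_of_le heq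
    rw [hd, Nat.add_sub_cancel_left]
    rw [hd] at hee
    nlinarith
  · apply Nat.coprime_of_dvd
    intro r hr h1 h2
    have hd := Nat.dvd_sub h1 h2
    rw [show q + e + 1 - (q - e + 1) = 2 ^ (m + 2) by rw [pow_succ, ← he]; omega] at hd
    have hr2 : r = 2 := (Nat.prime_dvd_prime_iff_eq hr Nat.prime_two).mp (hr.dvd_of_dvd_pow hd)
    subst hr2
    have : 2 ∣ q := dvd_pow_self 2 (by omega)
    have : 2 ∣ e := dvd_pow_self 2 (by omega)
    omega
  · have h4 : 4 ≤ e := by
      rw [he]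
      calc 4 = 2 ^ 2 := by norm_num
        _ ≤ _ := Nat.pow_le_pow_right (by norm_num) (by omega)
    have h2e : 2 * e ≤ q := by
      rw [he, hq, ← pow_succ']
      exact Nat.pow_le_pow_right (by norm_num) (by omega)
    omega

variable {p : ℕ} (hp : p.Prime) (hdvd : p ∣ (2 ^ (2 * m + 1)) ^ 2 + 1) {z : SG hF} (hz : orderOf z = p)

include hp hdvd hz in
theorem singer_dvd_cases :
    Nat.card (Subgroup.centralizer ({z} : Set (SG hF))) ∣ 2 ^ (2 * m + 1) + 2 ^ (m + 1) + 1 ∨
    Nat.card (Subgroup.centralizer ({z} : Set (SG hF))) ∣ 2 ^ (2 * m + 1) - 2 ^ (m + 1) + 1 := by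
  haveI := cent_cyclic hF hp hdvd hz
  obtain ⟨u, hu⟩ := IsCyclic.exists_generator (α := Subgroup.centralizer ({z} : Set (SG hF)))
  have hord : orderOf (u : SG hF) = Nat.card (Subgroup.centralizer ({z} : Set (SG hF))) := by
    rw [Subgroup.orderOf_coe]; exact orderOf_eq_card_of_forall_mem_zpowers hu
  have hgo : (u : SG hF) ^ ((2 ^ (2 * m + 1)) ^ 2 + 1) = 1 :=
    orderOf_dvd_iff_pow_eq_one.mp (hord ▸ singer_card_dvd hF hp hdvd hz)
  rcases exponent_cases hF hp hdvd hz u (Subgroup.mem_centralizer_singleton_iff.mp u.2) hgo with h | h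
  · exact Or.inl (hord ▸ orderOf_dvd_of_pow_eq_one h)
  · exact Or.inr (hord ▸ orderOf_dvd_of_pow_eq_one h)

include hp hdvd hz in
theorem singer_self : ∀ u ∈ Subgroup.centralizer ({z} : Set (SG hF)), u ≠ 1 →
    Subgroup.centralizer ({u} : Set (SG hF)) = Subgroup.centralizer ({z} : Set (SG hF)) := by
  intro u hu hu1
  set U := Subgroup.centralizer ({z} : Set (SG hF))
  haveI := cent_cyclic hF hp hdvd hz
  have hcomm : ∀ a b : U, (a : SG hF) * b = b * a := fun a b =>
    congrArg Subtype.val (IsCyclic.commGroup.mul_comm a b)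
  apply le_antisymm
  · intro x hx
    obtain ⟨r, w, hr, hw, hwu⟩ := exists_prime_power hu1
    have hwU : w ∈ U := (Subgroup.zpowers_le.mpr hu) hwu
    have hrd : r ∣ (2 ^ (2 * m + 1)) ^ 2 + 1 := by
      rw [← hw]
      exact (Subgroup.orderOf_coe (⟨w, hwU⟩ : U) ▸ orderOf_dvd_natCard (⟨w, hwU⟩ : U) :
        orderOf w ∣ Nat.card U).trans (singer_card_dvd hF hp hdvd hz)
    have hxw : x * w = w * x := by
      obtain ⟨k, rfl⟩ := Subgroup.mem_zpowers_iff.mp hwu
      exact ((show Commute x u from Subgroup.mem_centralizer_singleton_iff.mp hx).zpow_right k).eq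
    haveI := cent_cyclic hF hr hrd hw
    have hzw : z ∈ Subgroup.centralizer ({w} : Set (SG hF)) :=
      Subgroup.mem_centralizer_singleton_iff.mpr (Subgroup.mem_centralizer_singleton_iff.mp hwU).symm
    refine Subgroup.mem_centralizer_singleton_iff.mpr ?_
    exact congrArg Subtype.val (IsCyclic.commGroup.mul_comm
      (⟨x, Subgroup.mem_centralizer_singleton_iff.mpr hxw⟩ : Subgroup.centralizer ({w} : Set (SG hF))) ⟨z, hzw⟩)
  · intro x hx
    exact Subgroup.mem_centralizer_singleton_iff.mpr (hcomm ⟨x, hx⟩ ⟨u, hu⟩)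

include hp hdvd hz in
theorem z_mem : z ∈ Subgroup.centralizer ({z} : Set (SG hF)) ∧ z ≠ 1 :=
  ⟨Subgroup.mem_centralizer_singleton_iff.mpr rfl, fun h => hp.ne_one (by rw [← hz, h, orderOf_one])⟩

include hp hdvd hz in
theorem singer_ti (g u : SG hF) (hu : u ∈ Subgroup.centralizer ({z} : Set (SG hF))) (hu1 : u ≠ 1)
    (hg : g * u * g⁻¹ ∈ Subgroup.centralizer ({z} : Set (SG hF))) :
    g ∈ Subgroup.normalizer (Subgroup.centralizer ({z} : Set (SG hF)) : Set (SG hF)) := by
  have hne : g * u * g⁻¹ ≠ 1 := fun h => hu1 (by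
    calc u = g⁻¹ * (g * u * g⁻¹) * g := by group
      _ = 1 := by rw [h]; group)
  have e1 := singer_self hF hp hdvd hz u hu hu1
  have e2 := singer_self hF hp hdvd hz _ hg hne
  rw [Subgroup.mem_set_normalizer_iff]
  intro x
  show x ∈ Subgroup.centralizer ({z} : Set (SG hF)) ↔ g * x * g⁻¹ ∈ Subgroup.centralizer ({z} : Set (SG hF))
  nth_rewrite 1 [← e1]
  rw [← e2, Subgroup.mem_centralizer_singleton_iff, Subgroup.mem_centralizer_singleton_iff]
  constructor
  · intro h
    calc g * x * g⁻¹ * (g * u * g⁻¹) = g * (x * u) * g⁻¹ := by group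
      _ = g * (u * x) * g⁻¹ := by rw [h]
      _ = _ := by group
  · intro h
    calc x * u = g⁻¹ * (g * x * g⁻¹ * (g * u * g⁻¹)) * g := by group
      _ = g⁻¹ * (g * u * g⁻¹ * (g * x * g⁻¹)) * g := by rw [h]
      _ = u * x := by group

include hp hdvd hz in
theorem singer_normalizer_le :
    Nat.card (Subgroup.normalizer (Subgroup.centralizer ({z} : Set (SG hF)) : Set (SG hF))) ≤
      4 * Nat.card (Subgroup.centralizer ({z} : Set (SG hF))) := by
  classical
  obtain ⟨hirr, hdeg⟩ := minpoly_facts hF hp hdvd hz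
  haveI := Fact.mk hirr
  set U := Subgroup.centralizer ({z} : Set (SG hF)) with hU
  set N := Subgroup.normalizer (U : Set (SG hF)) with hN
  set μ := minpoly F (mat hF z) with hμ
  obtain ⟨ψ, hψi, hψ⟩ := exists_char hF hp hdvd hz
  obtain ⟨hzU, hz1⟩ := z_mem hF hp hdvd hz
  have hmem : ∀ g : N, (g : SG hF) * z * (g : SG hF)⁻¹ ∈ U := fun g =>
    (Subgroup.mem_set_normalizer_iff.mp g.2 z).mp hzU
  let R := ((μ.map (algebraMap F (KF hF (z := z)))).roots.toFinset)
  have hR : R.card ≤ 4 := by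
    refine (Multiset.toFinset_card_le _).trans ((Polynomial.card_roots' _).trans ?_)
    rw [Polynomial.natDegree_map, hdeg]
  have hroot : ∀ g : N, ψ ⟨_, hmem g⟩ ∈ R := by
    intro g
    rw [Multiset.mem_toFinset, Polynomial.mem_roots ((Polynomial.map_ne_zero_iff
      (algebraMap F _).injective).mpr hirr.ne_zero), Polynomial.IsRoot, Polynomial.eval_map_algebraMap]
    apply (embed hF (z := z)).toRingHom.injective
    show embed hF (Polynomial.aeval _ μ) = embed hF 0
    rw [← Polynomial.aeval_algHom_apply, hψ, map_zero]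
    show Polynomial.aeval (mat hF ((g : SG hF) * z * (g : SG hF)⁻¹)) μ = 0
    have hPQ : mat hF (g : SG hF)⁻¹ * mat hF (g : SG hF) = 1 := by rw [← mat_mul, inv_mul_cancel, mat_one]
    have hQP : mat hF (g : SG hF) * mat hF (g : SG hF)⁻¹ = 1 := by rw [← mat_mul, mul_inv_cancel, mat_one]
    let c : Matrix (Fin 4) (Fin 4) F →ₐ[F] Matrix (Fin 4) (Fin 4) F :=
      AlgHom.mk' { toFun := fun X => mat hF (g : SG hF) * X * mat hF (g : SG hF)⁻¹
                   map_one' := by rw [mul_one, hQP]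
                   map_mul' := fun X Y => by
                     calc mat hF (g : SG hF) * (X * Y) * mat hF (g : SG hF)⁻¹
                         = mat hF (g : SG hF) * X * 1 * (Y * mat hF (g : SG hF)⁻¹) := by
                           simp only [mul_one, Matrix.mul_assoc]
                       _ = _ := by rw [← hPQ]; simp only [Matrix.mul_assoc]
                   map_zero' := by rw [mul_zero, zero_mul]
                   map_add' := fun X Y => by rw [mul_add, add_mul] }
        (fun k X => by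
          show mat hF (g : SG hF) * (k • X) * mat hF (g : SG hF)⁻¹ =
            k • (mat hF (g : SG hF) * X * mat hF (g : SG hF)⁻¹)
          rw [Matrix.mul_smul, Matrix.smul_mul])
    have e : mat hF ((g : SG hF) * z * (g : SG hF)⁻¹) = c (mat hF z) := by
      rw [mat_mul, mat_mul]; rfl
    rw [e, Polynomial.aeval_algHom_apply, hμ, minpoly.aeval, map_zero]
  let UN := U.subgroupOf N
  have hle : U ≤ N := Subgroup.le_normalizer
  let Φ : N ⧸ UN → R := Quotient.lift (fun g => (⟨ψ ⟨_, hmem g⟩, hroot g⟩ : R)) (by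
    intro g h hgh
    have hu0 : (g⁻¹ * h : N) ∈ UN := QuotientGroup.leftRel_apply.mp hgh
    have hu : ((g⁻¹ * h : N) : SG hF) ∈ U := hu0
    apply Subtype.ext
    show ψ _ = ψ _
    congr 1
    apply Subtype.ext
    show (g : SG hF) * z * (g : SG hF)⁻¹ = (h : SG hF) * z * (h : SG hF)⁻¹
    have hc := Subgroup.mem_centralizer_singleton_iff.mp hu
    rw [Subgroup.coe_mul, InvMemClass.coe_inv] at hc
    calc (g : SG hF) * z * (g : SG hF)⁻¹ = (g : SG hF) * (z * ((g : SG hF)⁻¹ * h)) * (h : SG hF)⁻¹ := by group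
      _ = (g : SG hF) * (((g : SG hF)⁻¹ * h) * z) * (h : SG hF)⁻¹ := by rw [hc]
      _ = _ := by group)
  have hΦ : Function.Injective Φ := by
    intro x y
    induction x using Quotient.inductionOn with
    | h g =>
      induction y using Quotient.inductionOn with
      | h h =>
        intro e
        apply Quotient.sound
        refine QuotientGroup.leftRel_apply.mpr ?_
        show ((g⁻¹ * h : N) : SG hF) ∈ U
        have e' := congrArg Subtype.val (hψi (congrArg Subtype.val e))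
        rw [Subgroup.mem_centralizer_singleton_iff, Subgroup.coe_mul, InvMemClass.coe_inv]
        have e'' : (g : SG hF) * z * (g : SG hF)⁻¹ = (h : SG hF) * z * (h : SG hF)⁻¹ := e'
        calc (g : SG hF)⁻¹ * h * z = (g : SG hF)⁻¹ * ((h : SG hF) * z * (h : SG hF)⁻¹) * h := by group
          _ = (g : SG hF)⁻¹ * ((g : SG hF) * z * (g : SG hF)⁻¹) * h := by rw [e'']
          _ = _ := by group
  have h1 := Nat.card_le_card_of_injective Φ hΦ
  rw [Nat.card_eq_finsetCard] at h1
  have h2 : Nat.card N = Nat.card (N ⧸ UN) * Nat.card UN := Subgroup.card_eq_card_quotient_mul_card_subgroup UN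
  rw [h2, Nat.card_congr (Subgroup.subgroupOfEquivOfLe hle).toEquiv]
  exact Nat.mul_le_mul_right _ (h1.trans hR)

end Cfsg.Agent.SzC
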