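import Mathlib
import Cfsg.Agent.Lib.SzC.Classes

/-!
# Counting: the two exceptional classes
-/

set_option autoImplicit false

open scoped Matrix

namespace Cfsg.Agent.SzC

open Cfsg.Agent.SzB

variable {F : Type*} [Field F] [CharP F 2] [Fintype F] {m : ℕ} (hm : 1 ≤ m)
  (hF : Fintype.card F = 2 ^ (2 * m + 1))

/-- elements of the exceptional tori -/
def wset : Set (SG hF) := {x | x ≠ 1 ∧ x ^ ((2 ^ (2 * m + 1)) ^ 2 + 1) = 1}

theorem unip_conjSet_card :
    (conjSet (unip (stdTwist hF))).ncard =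
      ((2 ^ (2 * m + 1)) ^ 2 + 1) * ((2 ^ (2 * m + 1)) ^ 2 - 1) := by
  set τ := stdTwist hF
  rw [card_conjSet (unip τ) (bor τ) (fun g hg u hu => bor_conj_unip τ hg hu) (fun g u hu hu1 hg => ?_),
    index_bor, card_unip, hF]
  have hne : g * u * g⁻¹ ≠ 1 := fun h => hu1 (by
    calc u = g⁻¹ * (g * u * g⁻¹) * g := by group
      _ = 1 := by rw [h]; group)
  refine SzO.mem_bor_of_fixes τ hg hne ?_
  convert unip_le_bor τ hu using 1
  group

theorem torus_conjSet_card :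
    2 * (conjSet (tS (stdTwist hF)).range).ncard =
      (2 ^ (2 * m + 1)) ^ 2 * ((2 ^ (2 * m + 1)) ^ 2 + 1) * (2 ^ (2 * m + 1) - 2) := by
  set τ := stdTwist hF
  rw [card_conjSet _ (normT τ) (fun g hg u hu => normT_conj τ hg hu) (fun g u hu hu1 hg => ?_),
    card_torus, hF]
  · have h1 := (normT τ).card_mul_index
    rw [card_normT, card_SG, hF] at h1
    set q := 2 ^ (2 * m + 1) with hq
    have hq2 : 2 ≤ q := by rw [hq]; exact Nat.le_self_pow (by omega) 2
    have h2 : 2 * (normT τ).index = q ^ 2 * (q ^ 2 + 1) := by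
      apply Nat.eq_of_mul_eq_mul_left (show 0 < q - 1 by omega)
      calc (q - 1) * (2 * (normT τ).index) = 2 * (q - 1) * (normT τ).index := by ring
        _ = q ^ 2 * (q - 1) * (q ^ 2 + 1) := h1
        _ = _ := by ring
    rw [← mul_assoc, h2, Nat.sub_sub]
  · obtain ⟨v, rfl⟩ := hu
    obtain ⟨v', hv'⟩ := hg
    have hv : v ≠ 1 := by rintro rfl; exact hu1 (map_one _)
    rcases torus_norm τ hv hv'.symm with ⟨w, hw, -⟩ | ⟨w, hw, -⟩
    · exact ⟨w, Or.inl hw⟩
    · exact ⟨w, Or.inr hw⟩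

theorem mem_conjSet_unip {g x : SG hF} (hx : x ≠ 1) (h : g⁻¹ * x * g ∈ unip (stdTwist hF)) :
    x ∈ conjSet (unip (stdTwist hF)) := ⟨hx, g, h⟩

theorem trichotomy {x : SG hF} (hx : x ≠ 1) :
    x ∈ conjSet (unip (stdTwist hF)) ∨ x ∈ conjSet (tS (stdTwist hF)).range ∨ x ∈ wset hF := by
  obtain ⟨r, w, hr, hw, hwz⟩ := exists_prime_power hx
  have hxw : x * w = w * x := by
    obtain ⟨k, rfl⟩ := Subgroup.mem_zpowers_iff.mp hwz
    exact ((Commute.refl x).zpow_right k).eq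
  haveI := Fact.mk hr
  rcases cent_pow_cases hF hr hw hxw with ⟨h, -⟩ | ⟨h, -⟩ | ⟨-, h⟩
  · subst h
    obtain ⟨g, hg⟩ := involution_cases hF hw
    exact Or.inl ⟨hx, g, hg x hxw⟩
  · obtain ⟨g, hg⟩ := split_cases hF h hw
    exact Or.inr (Or.inl ⟨hx, g, hg x hxw⟩)
  · exact Or.inr (Or.inr ⟨hx, h⟩)

theorem wset_card :
    2 * (wset hF).ncard = (2 ^ (2 * m + 1)) ^ 3 * (2 ^ (2 * m + 1) - 1) ^ 2 := by
  classical
  haveI : Fintype (SG hF) := Fintype.ofFinite _
  obtain ⟨h1, h2, h3⟩ := pieces_coprime (m := m)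
  set A := conjSet (unip (stdTwist hF))
  set B := conjSet (tS (stdTwist hF)).range
  set W := wset hF
  have hA : ∀ x ∈ A, x ^ ((2 ^ (2 * m + 1)) ^ 2) = 1 := fun x ⟨_, g, hg⟩ => conj_pow_eq_one (unip_pow hF hg)
  have hB : ∀ x ∈ B, x ^ (2 ^ (2 * m + 1) - 1) = 1 := fun x ⟨_, g, hg⟩ => conj_pow_eq_one (torus_pow hF hg)
  have hAB : Disjoint A B := Set.disjoint_left.mpr fun x ha hb =>
    ha.1 (eq_one_of_coprime h1 (hA x ha) (hB x hb))
  have hABW : Disjoint (A ∪ B) W := Set.disjoint_left.mpr fun x hab hw =>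
    hw.1 (hab.elim (fun ha => eq_one_of_coprime h2 (hA x ha) hw.2) (fun hb => eq_one_of_coprime h3 (hB x hb) hw.2))
  have hu : A ∪ B ∪ W = {(1 : SG hF)}ᶜ := by
    ext x
    constructor
    · rintro ((h | h) | h) <;> exact h.1
    · intro hx
      rcases trichotomy hF (show x ≠ 1 from hx) with h | h | h
      · exact Or.inl (Or.inl h)
      · exact Or.inl (Or.inr h)
      · exact Or.inr h
  have hsum : A.ncard + B.ncard + W.ncard = Nat.card (SG hF) - 1 := by
    rw [← Set.ncard_union_eq hAB, ← Set.ncard_union_eq hABW, hu, Set.ncard_compl, Set.ncard_singleton]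
  rw [card_SG] at hsum
  have hB' := torus_conjSet_card hF
  rw [unip_conjSet_card hF] at hsum
  set q := 2 ^ (2 * m + 1) with hq
  have hq2 : 2 ≤ q := by rw [hq]; exact Nat.le_self_pow (by omega) 2
  obtain ⟨r, hr⟩ := Nat.exists_eq_add_of_le hq2
  have hq1 : 1 ≤ q ^ 2 := Nat.one_le_pow _ _ (by omega)
  have hG1 : 1 ≤ q ^ 2 * (q - 1) * (q ^ 2 + 1) :=
    Nat.mul_pos (Nat.mul_pos (by omega) (by omega)) (by omega)
  zify [hq1, hG1, hq2, show 1 ≤ q by omega] at hsum hB' ⊢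
  linear_combination 2 * hsum - hB'

theorem class_size {p : ℕ} (hp : p.Prime) (hdvd : p ∣ (2 ^ (2 * m + 1)) ^ 2 + 1) {z : SG hF}
    (hz : orderOf z = p) :
    ∃ i : ℕ, Nat.card (SG hF) ≤ 4 * Nat.card (Subgroup.centralizer ({z} : Set (SG hF))) * i ∧
      i * Nat.card (Subgroup.normalizer (Subgroup.centralizer ({z} : Set (SG hF)) : Set (SG hF))) =
        Nat.card (SG hF) ∧
      (conjSet (Subgroup.centralizer ({z} : Set (SG hF)))).ncard =
        i * (Nat.card (Subgroup.centralizer ({z} : Set (SG hF))) - 1) := by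
  set U := Subgroup.centralizer ({z} : Set (SG hF))
  set N := Subgroup.normalizer (U : Set (SG hF))
  refine ⟨N.index, ?_, by rw [mul_comm]; exact N.card_mul_index, ?_⟩
  · calc Nat.card (SG hF) = Nat.card N * N.index := N.card_mul_index.symm
      _ ≤ _ := Nat.mul_le_mul_right _ (singer_normalizer_le hF hp hdvd hz)
  · exact card_conjSet U N (fun g hg u hu => (Subgroup.mem_set_normalizer_iff.mp hg u).mp hu)
      (singer_ti hF hp hdvd hz)

theorem conjSet_subset_wset {p : ℕ} (hp : p.Prime) (hdvd : p ∣ (2 ^ (2 * m + 1)) ^ 2 + 1) {z : SG hF}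
    (hz : orderOf z = p) : conjSet (Subgroup.centralizer ({z} : Set (SG hF))) ⊆ wset hF := by
  rintro x ⟨hx, g, hg⟩
  refine ⟨hx, conj_pow_eq_one (g := g) ?_⟩
  have : (⟨g⁻¹ * x * g, hg⟩ : Subgroup.centralizer ({z} : Set (SG hF))) ^ ((2 ^ (2 * m + 1)) ^ 2 + 1) = 1 :=
    orderOf_dvd_iff_pow_eq_one.mp ((orderOf_dvd_natCard _).trans (singer_card_dvd hF hp hdvd hz))
  exact congrArg Subtype.val this

theorem five_le {p : ℕ} (hp : p.Prime) (hdvd : p ∣ (2 ^ (2 * m + 1)) ^ 2 + 1) : 5 ≤ p := by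
  obtain ⟨hp2, hd⟩ := prime_facts hp hdvd
  by_contra h
  push Not at h
  have h2 := hp.two_le
  interval_cases p
  · exact hp2 rfl
  · apply hd 2 (by norm_num) (by norm_num)
    have h3 : ¬ 3 ∣ 2 ^ (2 * m + 1) := fun h => by
      have := (Nat.prime_dvd_prime_iff_eq Nat.prime_three Nat.prime_two).mp (Nat.prime_three.dvd_of_dvd_pow h)
      omega
    exfalso
    have h4 : 3 ∣ (2 ^ (2 * m + 1)) ^ 2 + 1 := hdvd
    rw [Nat.dvd_iff_mod_eq_zero] at h3 h4
    rw [Nat.add_mod, Nat.pow_mod] at h4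
    have : 2 ^ (2 * m + 1) % 3 = 1 ∨ 2 ^ (2 * m + 1) % 3 = 2 := by omega
    rcases this with e | e <;> simp [e] at h4
  · norm_num at hp

theorem five_le_singer {p : ℕ} (hp : p.Prime) (hdvd : p ∣ (2 ^ (2 * m + 1)) ^ 2 + 1) {z : SG hF}
    (hz : orderOf z = p) : 5 ≤ Nat.card (Subgroup.centralizer ({z} : Set (SG hF))) := by
  obtain ⟨hzU, -⟩ := z_mem hF hp hdvd hz
  have h := orderOf_dvd_natCard (⟨z, hzU⟩ : Subgroup.centralizer ({z} : Set (SG hF)))
  rw [← Subgroup.orderOf_coe, hz] at h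
  exact (five_le hp hdvd).trans (Nat.le_of_dvd Nat.card_pos h)

theorem classes_disjoint {p p' : ℕ} (hp : p.Prime) (hdvd : p ∣ (2 ^ (2 * m + 1)) ^ 2 + 1) {z : SG hF}
    (hz : orderOf z = p) (hp' : p'.Prime) (hdvd' : p' ∣ (2 ^ (2 * m + 1)) ^ 2 + 1) {z' : SG hF}
    (hz' : orderOf z' = p') (hne : z' ∉ conjSet (Subgroup.centralizer ({z} : Set (SG hF)))) :
    Disjoint (conjSet (Subgroup.centralizer ({z} : Set (SG hF))))
      (conjSet (Subgroup.centralizer ({z'} : Set (SG hF)))) := by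
  rw [Set.disjoint_left]
  rintro x ⟨hx, g, hg⟩ ⟨-, h, hh⟩
  have hne1 : ∀ k : SG hF, k⁻¹ * x * k ≠ 1 := fun k e => hx (by
    calc x = k * (k⁻¹ * x * k) * k⁻¹ := by group
      _ = 1 := by rw [e]; group)
  have e1 := singer_self hF hp hdvd hz _ hg (hne1 g)
  have e2 := singer_self hF hp' hdvd' hz' _ hh (hne1 h)
  obtain ⟨hzU, hz1⟩ := z_mem hF hp' hdvd' hz'
  apply hne
  refine ⟨hz1, h⁻¹ * g, ?_⟩
  rw [← e1, Subgroup.mem_centralizer_singleton_iff]
  rw [← e2, Subgroup.mem_centralizer_singleton_iff] at hzU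
  calc (h⁻¹ * g)⁻¹ * z' * (h⁻¹ * g) * (g⁻¹ * x * g)
      = g⁻¹ * h * (z' * (h⁻¹ * x * h)) * h⁻¹ * g := by group
    _ = g⁻¹ * h * ((h⁻¹ * x * h) * z') * h⁻¹ * g := by rw [hzU]
    _ = _ := by group

include hm in
/-- There are exactly two classes. -/
theorem two_classes : ∃ zp zm : SG hF, ∃ pp pm : ℕ,
    (pp.Prime ∧ pp ∣ (2 ^ (2 * m + 1)) ^ 2 + 1 ∧ orderOf zp = pp) ∧
    (pm.Prime ∧ pm ∣ (2 ^ (2 * m + 1)) ^ 2 + 1 ∧ orderOf zm = pm) ∧
    Nat.card (Subgroup.centralizer ({zp} : Set (SG hF))) = 2 ^ (2 * m + 1) + 2 ^ (m + 1) + 1 ∧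
    Nat.card (Subgroup.centralizer ({zm} : Set (SG hF))) = 2 ^ (2 * m + 1) - 2 ^ (m + 1) + 1 ∧
    Nat.card (Subgroup.normalizer (Subgroup.centralizer ({zp} : Set (SG hF)) : Set (SG hF))) =
      4 * (2 ^ (2 * m + 1) + 2 ^ (m + 1) + 1) ∧
    Nat.card (Subgroup.normalizer (Subgroup.centralizer ({zm} : Set (SG hF)) : Set (SG hF))) =
      4 * (2 ^ (2 * m + 1) - 2 ^ (m + 1) + 1) ∧
    wset hF = conjSet (Subgroup.centralizer ({zp} : Set (SG hF))) ∪
      conjSet (Subgroup.centralizer ({zm} : Set (SG hF))) := by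
  classical
  obtain ⟨kp, km, hkp, hkm, hprod, hsum, hcop, h5⟩ := count_identities (m := m)
  obtain ⟨h5m, h5p⟩ := h5 hm
  simp only [← hkp, ← hkm]
  have hW := wset_card hF
  have hG := card_SG hF
  have hpick : ∀ k, 5 ≤ k → k ∣ (2 ^ (2 * m + 1)) ^ 2 + 1 → ∃ (r : ℕ) (z : SG hF),
      r.Prime ∧ r ∣ k ∧ r ∣ (2 ^ (2 * m + 1)) ^ 2 + 1 ∧ orderOf z = r := by
    intro k hk hkd
    obtain ⟨r, hr, hrk⟩ := Nat.exists_prime_and_dvd (show k ≠ 1 by omega)
    haveI := Fact.mk hr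
    obtain ⟨z, hz⟩ := exists_prime_orderOf_dvd_card' (G := SG hF) r
      (hG ▸ Dvd.dvd.mul_left (hrk.trans hkd) _)
    exact ⟨r, z, hr, hrk, hrk.trans hkd, hz⟩
  obtain ⟨pp, zp, hpp, hppk, hppd, hzp⟩ := hpick kp h5p (hprod ▸ dvd_mul_right kp km)
  obtain ⟨pm, zm, hpm, hpmk, hpmd, hzm⟩ := hpick km h5m (hprod ▸ dvd_mul_left km kp)
  set Up := Subgroup.centralizer ({zp} : Set (SG hF)) with hUp
  set Um := Subgroup.centralizer ({zm} : Set (SG hF)) with hUm
  have hpU : ∀ {r : ℕ} {z : SG hF}, r.Prime → r ∣ (2 ^ (2 * m + 1)) ^ 2 + 1 → orderOf z = r →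
      r ∣ Nat.card (Subgroup.centralizer ({z} : Set (SG hF))) := by
    intro r z hr hrd hz
    obtain ⟨hzU, -⟩ := z_mem hF hr hrd hz
    have h := orderOf_dvd_natCard (⟨z, hzU⟩ : Subgroup.centralizer ({z} : Set (SG hF)))
    rwa [← Subgroup.orderOf_coe, hz] at h
  have hnodvd : ∀ {r a b : ℕ}, r.Prime → Nat.Coprime a b → r ∣ a → ¬ r ∣ b := fun hr hab ha hb =>
    hr.not_dvd_one (hab ▸ Nat.dvd_gcd ha hb)
  have hup : Nat.card Up ∣ kp := by
    rcases singer_dvd_cases hF hpp hppd hzp with h | h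
    · rwa [← hkp] at h
    · rw [← hkm] at h
      exact absurd ((hpU hpp hppd hzp).trans h) (hnodvd hpp hcop hppk)
  have hum : Nat.card Um ∣ km := by
    rcases singer_dvd_cases hF hpm hpmd hzm with h | h
    · rw [← hkp] at h
      exact absurd ((hpU hpm hpmd hzm).trans h) (hnodvd hpm hcop.symm hpmk)
    · rwa [← hkm] at h
  have hpowp : ∀ x ∈ conjSet Up, x ^ kp = 1 := fun x ⟨_, g, hg⟩ => conj_pow_eq_one (g := g)
    (congrArg Subtype.val (orderOf_dvd_iff_pow_eq_one.mp ((orderOf_dvd_natCard (⟨_, hg⟩ : Up)).trans hup)))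
  have hpowm : ∀ x ∈ conjSet Um, x ^ km = 1 := fun x ⟨_, g, hg⟩ => conj_pow_eq_one (g := g)
    (congrArg Subtype.val (orderOf_dvd_iff_pow_eq_one.mp ((orderOf_dvd_natCard (⟨_, hg⟩ : Um)).trans hum)))
  have hdis : Disjoint (conjSet Up) (conjSet Um) := Set.disjoint_left.mpr fun x h1 h2 =>
    h1.1 (eq_one_of_coprime hcop (hpowp x h1) (hpowm x h2))
  have hsubp := conjSet_subset_wset hF hpp hppd hzp
  have hsubm := conjSet_subset_wset hF hpm hpmd hzm
  obtain ⟨ip, hip, hNp, hSp⟩ := class_size hF hpp hppd hzp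
  obtain ⟨im, him, hNm, hSm⟩ := class_size hF hpm hpmd hzm
  have hcover : wset hF = conjSet Up ∪ conjSet Um := by
    refine Set.Subset.antisymm (fun x hx => ?_) (Set.union_subset hsubp hsubm)
    by_contra hnot
    obtain ⟨r, w, hr, hw, hwz⟩ := exists_prime_power hx.1
    have hxw : x * w = w * x := by
      obtain ⟨k, rfl⟩ := Subgroup.mem_zpowers_iff.mp hwz
      exact ((Commute.refl x).zpow_right k).eq
    have hrd : r ∣ (2 ^ (2 * m + 1)) ^ 2 + 1 := by
      rw [← hw]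
      exact (orderOf_dvd_of_mem_zpowers hwz).trans (orderOf_dvd_of_pow_eq_one hx.2)
    have hin : ∀ {r0 : ℕ} {z : SG hF}, r0.Prime → r0 ∣ (2 ^ (2 * m + 1)) ^ 2 + 1 → orderOf z = r0 →
        w ∈ conjSet (Subgroup.centralizer ({z} : Set (SG hF))) →
        x ∈ conjSet (Subgroup.centralizer ({z} : Set (SG hF))) := by
      rintro r0 z hr0 hrd0 hz ⟨hw1, g, hg⟩
      refine ⟨hx.1, g, ?_⟩
      have hne : g⁻¹ * w * g ≠ 1 := fun e => hw1 (by
        calc w = g * (g⁻¹ * w * g) * g⁻¹ := by group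
          _ = 1 := by rw [e]; group)
      rw [← singer_self hF hr0 hrd0 hz _ hg hne, Subgroup.mem_centralizer_singleton_iff]
      calc g⁻¹ * x * g * (g⁻¹ * w * g) = g⁻¹ * (x * w) * g := by group
        _ = g⁻¹ * (w * x) * g := by rw [hxw]
        _ = _ := by group
    have hd1 := classes_disjoint hF hpp hppd hzp hr hrd hw
      (fun h => hnot (Or.inl (hin hpp hppd hzp h)))
    have hd2 := classes_disjoint hF hpm hpmd hzm hr hrd hw
      (fun h => hnot (Or.inr (hin hpm hpmd hzm h)))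
    obtain ⟨i3, hi3, -, hS3⟩ := class_size hF hr hrd hw
    set U3 := Subgroup.centralizer ({w} : Set (SG hF))
    have hle : (conjSet Up).ncard + (conjSet Um).ncard + (conjSet U3).ncard ≤ (wset hF).ncard := by
      rw [← Set.ncard_union_eq hdis, ← Set.ncard_union_eq (Set.disjoint_union_left.mpr ⟨hd1, hd2⟩)]
      exact Set.ncard_le_ncard (Set.union_subset (Set.union_subset hsubp hsubm) (conjSet_subset_wset hF hr hrd hw))
    have big : ∀ u i : ℕ, 5 ≤ u → Nat.card (SG hF) ≤ 4 * u * i →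
        Nat.card (SG hF) ≤ 5 * (i * (u - 1)) := by
      intro u i hu h
      refine h.trans ?_
      obtain ⟨v, rfl⟩ := Nat.exists_eq_add_of_le hu
      rw [show 5 + v - 1 = 4 + v by omega]
      nlinarith
    have b1 := big _ _ (five_le_singer hF hpp hppd hzp) hip
    have b2 := big _ _ (five_le_singer hF hpm hpmd hzm) him
    have b3 := big _ _ (five_le_singer hF hr hrd hw) hi3
    rw [← hSp] at b1
    rw [← hSm] at b2
    rw [← hS3] at b3
    rw [hG] at b1 b2 b3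
    set q := 2 ^ (2 * m + 1)
    have hq2 : 2 ≤ q := Nat.le_self_pow (by omega) 2
    obtain ⟨d, hd⟩ := Nat.exists_eq_add_of_le (show 1 ≤ q by omega)
    rw [show q - 1 = d by omega] at b1 b2 b3 hW
    rw [hd] at b1 b2 b3 hW
    nlinarith
  have hfull : ∀ {r0 : ℕ} {z : SG hF} (k k' : ℕ), r0.Prime → r0 ∣ (2 ^ (2 * m + 1)) ^ 2 + 1 → orderOf z = r0 →
      k ∣ (2 ^ (2 * m + 1)) ^ 2 + 1 → Nat.Coprime k k' →
      (∀ x ∈ wset hF, x ∈ conjSet (Subgroup.centralizer ({z} : Set (SG hF))) ∨ x ^ k' = 1) →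
      k ∣ Nat.card (Subgroup.centralizer ({z} : Set (SG hF))) := by
    intro r0 z k k' hr0 hrd0 hz hk hkk hsplit
    refine (Nat.dvd_iff_prime_pow_dvd_dvd _ _).mpr fun r a hr hra => ?_
    rcases Nat.eq_zero_or_pos a with rfl | ha
    · simp
    haveI := Fact.mk hr
    have hrk : r ∣ k := (dvd_pow_self r ha.ne').trans hra
    obtain ⟨R⟩ : Nonempty (Sylow r (SG hF)) := inferInstance
    have hcard := R.card_eq_multiplicity
    have hle : a ≤ (Nat.card (SG hF)).factorization r :=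
      (hr.pow_dvd_iff_le_factorization Nat.card_pos.ne').mp (hG ▸ Dvd.dvd.mul_left (hra.trans hk) _)
    have hRnt : Nontrivial (R : Subgroup (SG hF)) := by
      rw [← Finite.one_lt_card_iff_nontrivial, hcard]
      exact Nat.one_lt_pow (by omega) hr.one_lt
    obtain ⟨c, hc⟩ : ∃ c : Subgroup.center (R : Subgroup (SG hF)), orderOf c = r := by
      haveI := IsPGroup.center_nontrivial R.isPGroup'
      obtain ⟨n, hn⟩ := (IsPGroup.iff_card).mp (R.isPGroup'.to_subgroup (Subgroup.center (R : Subgroup (SG hF))))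
      refine exists_prime_orderOf_dvd_card' r ?_
      rw [hn]
      refine dvd_pow_self r fun h0 => ?_
      rw [h0, pow_zero] at hn
      exact absurd hn (Finite.one_lt_card.ne')
    have hc' : orderOf ((c : (R : Subgroup (SG hF))) : SG hF) = r := by
      rw [Subgroup.orderOf_coe, Subgroup.orderOf_coe, hc]
    set y := ((c : (R : Subgroup (SG hF))) : SG hF)
    have hyW : y ∈ wset hF := ⟨fun h => hr.ne_one (by rw [← hc', h, orderOf_one]),
      orderOf_dvd_iff_pow_eq_one.mp (hc' ▸ hrk.trans hk)⟩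
    rcases hsplit y hyW with ⟨hy1, g, hg⟩ | hy
    · have hne : g⁻¹ * y * g ≠ 1 := fun e => hy1 (by
        calc y = g * (g⁻¹ * y * g) * g⁻¹ := by group
          _ = 1 := by rw [e]; group)
      have hRle : (R : Subgroup (SG hF)).map (MulAut.conj g⁻¹).toMonoidHom ≤
          Subgroup.centralizer ({z} : Set (SG hF)) := by
        rintro _ ⟨x, hx, rfl⟩
        rw [← singer_self hF hr0 hrd0 hz _ hg hne, Subgroup.mem_centralizer_singleton_iff]
        have hxy : x * y = y * x :=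
          congrArg Subtype.val (Subgroup.mem_center_iff.mp c.2 ⟨x, hx⟩)
        show MulAut.conj g⁻¹ x * _ = _ * MulAut.conj g⁻¹ x
        rw [MulAut.conj_apply, inv_inv]
        calc g⁻¹ * x * g * (g⁻¹ * y * g) = g⁻¹ * (x * y) * g := by group
          _ = g⁻¹ * (y * x) * g := by rw [hxy]
          _ = _ := by group
      have h := Subgroup.card_dvd_of_le hRle
      rw [Subgroup.card_map_of_injective (MulAut.conj g⁻¹).injective, hcard] at h
      exact (pow_dvd_pow r hle).trans h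
    · exfalso
      have := orderOf_dvd_of_pow_eq_one hy
      rw [hc'] at this
      exact hnodvd hr hkk hrk this
  have ep : Nat.card Up = kp := Nat.dvd_antisymm hup (hfull kp km hpp hppd hzp (hprod ▸ dvd_mul_right kp km)
    hcop (fun x hx => by
      rw [hcover] at hx
      exact hx.imp id (hpowm x)))
  have em : Nat.card Um = km := Nat.dvd_antisymm hum (hfull km kp hpm hpmd hzm (hprod ▸ dvd_mul_left km kp)
    hcop.symm (fun x hx => by
      rw [hcover] at hx
      exact hx.symm.imp id (hpowp x)))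
  have htot : (wset hF).ncard = ip * (kp - 1) + im * (km - 1) := by
    rw [hcover, Set.ncard_union_eq hdis, hSp, hSm, ep, em]
  rw [ep] at hip
  rw [em] at him
  rw [hG, ← hprod] at hip him hNp hNm
  rw [htot] at hW
  set q := 2 ^ (2 * m + 1) with hq
  set A := q ^ 2 * (q - 1)
  have hA0 : 0 < A := Nat.mul_pos (pow_pos (Nat.two_pow_pos _) 2) (by
    have : 2 ≤ q := Nat.le_self_pow (by omega) 2
    omega)
  have hip' : A * km ≤ 4 * ip := Nat.le_of_mul_le_mul_left (show kp * (A * km) ≤ kp * (4 * ip) by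
    calc kp * (A * km) = A * (kp * km) := by ring
      _ ≤ 4 * kp * ip := hip
      _ = _ := by ring) (by omega)
  have him' : A * kp ≤ 4 * im := Nat.le_of_mul_le_mul_left (show km * (A * kp) ≤ km * (4 * im) by
    calc km * (A * kp) = A * (kp * km) := by ring
      _ ≤ 4 * km * im := him
      _ = _ := by ring) (by omega)
  have hkey : 4 * (ip * (kp - 1) + im * (km - 1)) = A * km * (kp - 1) + A * kp * (km - 1) := by
    have h1 : kp * km = q ^ 2 + 1 := hprod
    obtain ⟨a, rfl⟩ := Nat.exists_eq_add_of_le (show 1 ≤ kp by omega)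
    obtain ⟨b, rfl⟩ := Nat.exists_eq_add_of_le (show 1 ≤ km by omega)
    simp only [Nat.add_sub_cancel_left] at hW ⊢
    have hq1 : 1 ≤ q := Nat.one_le_two_pow
    obtain ⟨d, hd⟩ := Nat.exists_eq_add_of_le hq1
    have hd' : q - 1 = d := by omega
    simp only [A, hd'] at hW ⊢
    zify at hW h1 hsum hd ⊢
    linear_combination 2 * hW - 2 * (q : ℤ) ^ 2 * d * h1 + (q : ℤ) ^ 2 * d * hsum + 2 * (q : ℤ) ^ 3 * d * (-hd)
  have hipE : 4 * ip = A * km := by
    by_contra hne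
    have : A * km * (kp - 1) < 4 * ip * (kp - 1) :=
      Nat.mul_lt_mul_of_pos_right (lt_of_le_of_ne hip' (Ne.symm hne)) (by omega)
    have : A * kp * (km - 1) ≤ 4 * im * (km - 1) := Nat.mul_le_mul_right _ him'
    linarith
  have himE : 4 * im = A * kp := by
    by_contra hne
    have : A * kp * (km - 1) < 4 * im * (km - 1) :=
      Nat.mul_lt_mul_of_pos_right (lt_of_le_of_ne him' (Ne.symm hne)) (by omega)
    have : A * km * (kp - 1) ≤ 4 * ip * (kp - 1) := Nat.mul_le_mul_right _ hip'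
    linarith
  refine ⟨zp, zm, pp, pm, ⟨hpp, hppd, hzp⟩, ⟨hpm, hpmd, hzm⟩, ep, em, ?_, ?_, hcover⟩
  · apply Nat.eq_of_mul_eq_mul_left (Nat.mul_pos hA0 (show 0 < km by omega))
    calc A * km * _ = 4 * (ip * _) := by rw [← hipE, mul_assoc]
      _ = 4 * (A * (kp * km)) := by rw [hNp]
      _ = _ := by ring
  · apply Nat.eq_of_mul_eq_mul_left (Nat.mul_pos hA0 (show 0 < kp by omega))
    calc A * kp * _ = 4 * (im * _) := by rw [← himE, mul_assoc]
      _ = 4 * (A * (kp * km)) := by rw [hNm]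
      _ = _ := by ring

end Cfsg.Agent.SzC
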