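import Mathlib
import Cfsg.Prelude.Def_LieExceptional
import Cfsg.Agent.Lib.SzC.Count

/-!
# Sylow subgroups, nilpotent centralisers, partition
-/

set_option autoImplicit false

open scoped Matrix

namespace Cfsg.Agent.SzC

open Cfsg.Agent.SzB

theorem cyclic_of_le {G : Type*} [Group G] {H K : Subgroup G} (hHK : H ≤ K) (hK : IsCyclic K) :
    IsCyclic H :=
  isCyclic_of_injective (Subgroup.inclusion hHK) (Subgroup.inclusion_injective hHK)

theorem nilpotent_of_le {G : Type*} [Group G] {H K : Subgroup G} (hHK : H ≤ K) (hK : Group.IsNilpotent K) :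
    Group.IsNilpotent H := by
  haveI := hK
  exact Group.nilpotent_of_mulEquiv (Subgroup.subgroupOfEquivOfLe hHK)

theorem conj_map_mem {G : Type*} [Group G] {g x : G} {K : Subgroup G} (h : g⁻¹ * x * g ∈ K) :
    x ∈ K.map (MulAut.conj g).toMonoidHom :=
  ⟨_, h, by simp [MulAut.conj_apply, mul_assoc]⟩

variable {F : Type*} [Field F] [CharP F 2] [Fintype F] {m : ℕ} (hF : Fintype.card F = 2 ^ (2 * m + 1))

theorem torus_cyclic : IsCyclic (tS (stdTwist hF)).range :=
  isCyclic_of_surjective _ (tS (stdTwist hF)).rangeRestrict_surjective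

theorem sylow_odd_cyclic {r : ℕ} [Fact r.Prime] (hr : r ≠ 2) (R : Sylow r (SG hF)) :
    IsCyclic (R : Subgroup (SG hF)) := by
  rcases subsingleton_or_nontrivial (R : Subgroup (SG hF)) with h | h
  · exact isCyclic_of_subsingleton
  obtain ⟨c, hc⟩ : ∃ c : Subgroup.center (R : Subgroup (SG hF)), orderOf c = r := by
    haveI := IsPGroup.center_nontrivial R.isPGroup'
    obtain ⟨n, hn⟩ := (IsPGroup.iff_card).mp (R.isPGroup'.to_subgroup (Subgroup.center (R : Subgroup (SG hF))))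
    refine exists_prime_orderOf_dvd_card' r ?_
    rw [hn]
    refine dvd_pow_self r fun h0 => ?_
    rw [h0, pow_zero] at hn
    exact absurd hn (Finite.one_lt_card.ne')
  set y := ((c : (R : Subgroup (SG hF))) : SG hF)
  have hy : orderOf y = r := by rw [Subgroup.orderOf_coe, Subgroup.orderOf_coe, hc]
  have hcomm : ∀ x ∈ (R : Subgroup (SG hF)), x * y = y * x := fun x hx =>
    congrArg Subtype.val (Subgroup.mem_center_iff.mp c.2 ⟨x, hx⟩)
  rcases prime_trichotomy hF Fact.out (hy ▸ orderOf_dvd_natCard y) with h | h | h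
  · exact absurd h hr
  · obtain ⟨g, hg⟩ := split_cases hF h hy
    refine cyclic_of_le (K := (tS (stdTwist hF)).range.map (MulAut.conj g).toMonoidHom)
      (fun x hx => conj_map_mem (hg x (hcomm x hx))) ?_
    haveI := torus_cyclic hF
    exact isCyclic_of_surjective _ ((MulAut.conj g).toMonoidHom.subgroupMap_surjective _)
  · exact cyclic_of_le (fun x hx => Subgroup.mem_centralizer_singleton_iff.mpr (hcomm x hx))
      (cent_cyclic hF Fact.out h hy)

theorem cn_group : Cfsg.IsCNGroup (SG hF) := by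
  intro x hx
  obtain ⟨r, w, hr, hw, hwz⟩ := exists_prime_power hx
  haveI := Fact.mk hr
  have hcomm : ∀ y ∈ Subgroup.centralizer ({x} : Set (SG hF)), y * w = w * y := by
    intro y hy
    obtain ⟨k, rfl⟩ := Subgroup.mem_zpowers_iff.mp hwz
    exact ((show Commute y x from Subgroup.mem_centralizer_singleton_iff.mp hy).zpow_right k).eq
  rcases prime_trichotomy hF hr (hw ▸ orderOf_dvd_natCard w) with h | h | h
  · subst h
    obtain ⟨g, hg⟩ := involution_cases hF hw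
    refine nilpotent_of_le (K := (unip (stdTwist hF)).map (MulAut.conj g).toMonoidHom)
      (fun y hy => conj_map_mem (hg y (hcomm y hy))) ?_
    haveI : Fact (Nat.Prime 2) := ⟨Nat.prime_two⟩
    exact ((IsPGroup.of_card (n := 2 * (2 * m + 1)) (by rw [card_unip, hF, ← pow_mul, mul_comm]) :
      IsPGroup 2 (unip (stdTwist hF))).map _).isNilpotent
  · obtain ⟨g, hg⟩ := split_cases hF h hw
    refine nilpotent_of_le (K := (tS (stdTwist hF)).range.map (MulAut.conj g).toMonoidHom)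
      (fun y hy => conj_map_mem (hg y (hcomm y hy))) ?_
    haveI := torus_cyclic hF
    haveI : IsCyclic ((tS (stdTwist hF)).range.map (MulAut.conj g).toMonoidHom) :=
      isCyclic_of_surjective _ ((MulAut.conj g).toMonoidHom.subgroupMap_surjective _)
    letI := IsCyclic.commGroup (α := (tS (stdTwist hF)).range.map (MulAut.conj g).toMonoidHom)
    infer_instance
  · refine nilpotent_of_le (K := Subgroup.centralizer ({w} : Set (SG hF)))
      (fun y hy => Subgroup.mem_centralizer_singleton_iff.mpr (hcomm y hy)) ?_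
    haveI := cent_cyclic hF hr h hw
    letI := IsCyclic.commGroup (α := Subgroup.centralizer ({w} : Set (SG hF)))
    infer_instance

/-- membership in one of the standard pieces -/
def IsPiece (U : Subgroup (SG hF)) : Prop :=
  (∃ g : SG hF, U = (unip (stdTwist hF)).map (MulAut.conj g).toMonoidHom) ∨
  (∃ g : SG hF, U = (tS (stdTwist hF)).range.map (MulAut.conj g).toMonoidHom) ∨
  (∃ p z, Nat.Prime p ∧ p ∣ (2 ^ (2 * m + 1)) ^ 2 + 1 ∧ orderOf z = p ∧
    U = Subgroup.centralizer ({z} : Set (SG hF)))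

theorem conj_centralizer {G : Type*} [Group G] (g z : G) :
    (Subgroup.centralizer ({z} : Set G)).map (MulAut.conj g).toMonoidHom =
      Subgroup.centralizer ({g * z * g⁻¹} : Set G) := by
  ext x
  constructor
  · rintro ⟨y, hy, rfl⟩
    rw [SetLike.mem_coe, Subgroup.mem_centralizer_singleton_iff] at hy
    rw [Subgroup.mem_centralizer_singleton_iff]
    show g * y * g⁻¹ * _ = _ * (g * y * g⁻¹)
    calc g * y * g⁻¹ * (g * z * g⁻¹) = g * (y * z) * g⁻¹ := by group
      _ = g * (z * y) * g⁻¹ := by rw [hy]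
      _ = _ := by group
  · intro hx
    rw [Subgroup.mem_centralizer_singleton_iff] at hx
    refine conj_map_mem (Subgroup.mem_centralizer_singleton_iff.mpr ?_)
    calc g⁻¹ * x * g * z = g⁻¹ * (x * (g * z * g⁻¹)) * g := by group
      _ = g⁻¹ * (g * z * g⁻¹ * x) * g := by rw [hx]
      _ = _ := by group

theorem unip_cent (v : SG hF) (hv : v ∈ unip (stdTwist hF)) (hv1 : v ≠ 1) {x : SG hF}
    (hx : x * v = v * x) : x ∈ unip (stdTwist hF) := by
  set τ := stdTwist hF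
  obtain ⟨a, b, rfl⟩ := hv
  by_cases ha : a = 0
  · subst ha
    exact cent_center τ (fun h => hv1 (by rw [h, uS_zero])) hx
  · apply cent_center τ (b := τ.th a * a) (mul_ne_zero (fun h => ha (τ.th_inj h)) ha)
    have hsq : uS τ 0 (τ.th a * a) = uS τ a b * uS τ a b := by
      rw [uS_mul, CharTwo.add_self_eq_zero, CharTwo.add_self_eq_zero, zero_add]
    rw [hsq, ← mul_assoc, hx, mul_assoc, hx, mul_assoc]

theorem piece_eq_cent {U : Subgroup (SG hF)} (hU : IsPiece hF U) {x : SG hF} (hx : x ∈ U) (hx1 : x ≠ 1) :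
    Subgroup.centralizer ({x} : Set (SG hF)) ≤ U := by
  set τ := stdTwist hF
  rcases hU with ⟨g, rfl⟩ | ⟨g, rfl⟩ | ⟨p, z, hp, hdvd, hz, rfl⟩
  · obtain ⟨v, hv, rfl⟩ := hx
    intro y hy
    refine conj_map_mem (unip_cent hF v hv (fun h => hx1 (by rw [h, map_one])) ?_)
    have hy' : y * (g * v * g⁻¹) = g * v * g⁻¹ * y := Subgroup.mem_centralizer_singleton_iff.mp hy
    calc g⁻¹ * y * g * v = g⁻¹ * (y * (g * v * g⁻¹)) * g := by group
      _ = g⁻¹ * (g * v * g⁻¹ * y) * g := by rw [hy']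
      _ = _ := by group
  · obtain ⟨v, ⟨u, rfl⟩, rfl⟩ := hx
    intro y hy
    refine conj_map_mem (cent_torus τ (v := u) (fun h => hx1 (by rw [h, map_one, map_one])) ?_)
    have hy' : y * (g * tS τ u * g⁻¹) = g * tS τ u * g⁻¹ * y := Subgroup.mem_centralizer_singleton_iff.mp hy
    calc g⁻¹ * y * g * tS τ u = g⁻¹ * (y * (g * tS τ u * g⁻¹)) * g := by group
      _ = g⁻¹ * (g * tS τ u * g⁻¹ * y) * g := by rw [hy']
      _ = _ := by group
  · exact (singer_self hF hp hdvd hz x hx hx1).le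

theorem piece_pow {U : Subgroup (SG hF)} (hU : IsPiece hF U) :
    (Nat.card U = (2 ^ (2 * m + 1)) ^ 2 ∧ ∀ x ∈ U, x ^ ((2 ^ (2 * m + 1)) ^ 2) = 1) ∨
    (IsCyclic U ∧ Nat.card U = 2 ^ (2 * m + 1) - 1) ∨
    (IsCyclic U ∧ Nat.card U ∣ (2 ^ (2 * m + 1)) ^ 2 + 1) := by
  rcases hU with ⟨g, rfl⟩ | ⟨g, rfl⟩ | ⟨p, z, hp, hdvd, hz, rfl⟩
  · refine Or.inl ⟨by rw [Subgroup.card_map_of_injective (MulAut.conj g).injective, card_unip, hF], ?_⟩
    rintro _ ⟨v, hv, rfl⟩
    rw [← map_pow, unip_pow hF hv, map_one]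
  · haveI := torus_cyclic hF
    exact Or.inr (Or.inl ⟨isCyclic_of_surjective _ ((MulAut.conj g).toMonoidHom.subgroupMap_surjective _),
      by rw [Subgroup.card_map_of_injective (MulAut.conj g).injective, card_torus, hF]⟩)
  · exact Or.inr (Or.inr ⟨cent_cyclic hF hp hdvd hz, singer_card_dvd hF hp hdvd hz⟩)

theorem exists_piece {x : SG hF} (hx : x ≠ 1) : ∃ U, IsPiece hF U ∧ x ∈ U := by
  rcases trichotomy hF hx with ⟨-, g, hg⟩ | ⟨-, g, hg⟩ | hw
  · exact ⟨_, Or.inl ⟨g, rfl⟩, conj_map_mem hg⟩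
  · exact ⟨_, Or.inr (Or.inl ⟨g, rfl⟩), conj_map_mem hg⟩
  · obtain ⟨r, w, hr, hw', hwz⟩ := exists_prime_power hx
    refine ⟨_, Or.inr (Or.inr ⟨r, w, hr, ?_, hw', rfl⟩), Subgroup.mem_centralizer_singleton_iff.mpr ?_⟩
    · rw [← hw']
      exact (orderOf_dvd_of_mem_zpowers hwz).trans (orderOf_dvd_of_pow_eq_one hw.2)
    · obtain ⟨k, rfl⟩ := Subgroup.mem_zpowers_iff.mp hwz
      exact ((Commute.refl x).zpow_right k).eq

theorem singer_card_cases (hm : 1 ≤ m) {p : ℕ} (hp : p.Prime) (hdvd : p ∣ (2 ^ (2 * m + 1)) ^ 2 + 1)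
    {z : SG hF} (hz : orderOf z = p) :
    (Nat.card (Subgroup.centralizer ({z} : Set (SG hF))) = 2 ^ (2 * m + 1) + 2 ^ (m + 1) + 1 ∨
      Nat.card (Subgroup.centralizer ({z} : Set (SG hF))) = 2 ^ (2 * m + 1) - 2 ^ (m + 1) + 1) ∧
    Nat.card (Subgroup.normalizer (Subgroup.centralizer ({z} : Set (SG hF)) : Set (SG hF))) =
      4 * Nat.card (Subgroup.centralizer ({z} : Set (SG hF))) := by
  obtain ⟨zp, zm, pp, pm, ⟨hpp, hppd, hzp⟩, ⟨hpm, hpmd, hzm⟩, ep, em, np, nm, hcov⟩ := two_classes hm hF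
  obtain ⟨hzU, hz1⟩ := z_mem hF hp hdvd hz
  have hzW : z ∈ wset hF := ⟨hz1, orderOf_dvd_iff_pow_eq_one.mp (hz ▸ hdvd)⟩
  have key : ∀ {p0 : ℕ} {z0 : SG hF}, p0.Prime → p0 ∣ (2 ^ (2 * m + 1)) ^ 2 + 1 → orderOf z0 = p0 →
      z ∈ conjSet (Subgroup.centralizer ({z0} : Set (SG hF))) →
      Nat.card (Subgroup.centralizer ({z} : Set (SG hF))) =
        Nat.card (Subgroup.centralizer ({z0} : Set (SG hF))) ∧
      Nat.card (Subgroup.normalizer (Subgroup.centralizer ({z} : Set (SG hF)) : Set (SG hF))) =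
        Nat.card (Subgroup.normalizer (Subgroup.centralizer ({z0} : Set (SG hF)) : Set (SG hF))) := by
    rintro p0 z0 hp0 hd0 hz0 ⟨-, g, hg⟩
    have hne : g⁻¹ * z * g ≠ 1 := fun e => hz1 (by
      calc z = g * (g⁻¹ * z * g) * g⁻¹ := by group
        _ = 1 := by rw [e]; group)
    have e1 := singer_self hF hp0 hd0 hz0 _ hg hne
    have e2 : Subgroup.centralizer ({z} : Set (SG hF)) =
        (Subgroup.centralizer ({z0} : Set (SG hF))).map (MulAut.conj g).toMonoidHom := by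
      rw [← e1, conj_centralizer]; congr 2; group
    rw [e2, ← Subgroup.map_equiv_normalizer_eq, Subgroup.card_map_of_injective (MulAut.conj g).injective,
      Subgroup.card_map_of_injective (MulAut.conj g).injective]
    exact ⟨rfl, rfl⟩
  rw [hcov] at hzW
  rcases hzW with h | h
  · obtain ⟨e1, e2⟩ := key hpp hppd hzp h
    rw [e2, e1, ep, np]
    exact ⟨Or.inl rfl, rfl⟩
  · obtain ⟨e1, e2⟩ := key hpm hpmd hzm h
    rw [e2, e1, em, nm]
    exact ⟨Or.inr rfl, rfl⟩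

theorem piece_unique {U V : Subgroup (SG hF)} (hU : IsPiece hF U) (hV : IsPiece hF V) {x : SG hF}
    (hxU : x ∈ U) (hxV : x ∈ V) (hx : x ≠ 1) : U = V := by
  have hcyc : ∀ {W : Subgroup (SG hF)}, IsCyclic W → x ∈ W → W ≤ Subgroup.centralizer ({x} : Set (SG hF)) := by
    intro W hW hxW y hy
    haveI := hW
    exact Subgroup.mem_centralizer_singleton_iff.mpr
      (congrArg Subtype.val (IsCyclic.commGroup.mul_comm (⟨y, hy⟩ : W) ⟨x, hxW⟩))
  obtain ⟨h1, h2, h3⟩ := pieces_coprime (m := m)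
  have hpw : ∀ {W : Subgroup (SG hF)} {n : ℕ}, x ∈ W → Nat.card W ∣ n → x ^ n = 1 := fun {W n} hxW h =>
    congrArg Subtype.val (orderOf_dvd_iff_pow_eq_one.mp ((orderOf_dvd_natCard (⟨x, hxW⟩ : W)).trans h))
  rcases piece_pow hF hU with ⟨-, pU⟩ | ⟨cU, nU⟩ | ⟨cU, nU⟩ <;>
    rcases piece_pow hF hV with ⟨-, pV⟩ | ⟨cV, nV⟩ | ⟨cV, nV⟩
  rotate_left
  · exact absurd (eq_one_of_coprime h1 (pU x hxU) (hpw hxV nV.dvd)) hx
  · exact absurd (eq_one_of_coprime h2 (pU x hxU) (hpw hxV nV)) hx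
  · exact absurd (eq_one_of_coprime h1 (pV x hxV) (hpw hxU nU.dvd)) hx
  · exact le_antisymm ((hcyc cU hxU).trans (piece_eq_cent hF hV hxV hx))
      ((hcyc cV hxV).trans (piece_eq_cent hF hU hxU hx))
  · exact absurd (eq_one_of_coprime h3 (hpw hxU nU.dvd) (hpw hxV nV)) hx
  · exact absurd (eq_one_of_coprime h2 (pV x hxV) (hpw hxU nU)) hx
  · exact absurd (eq_one_of_coprime h3 (hpw hxV nV.dvd) (hpw hxU nU)) hx
  · exact le_antisymm ((hcyc cU hxU).trans (piece_eq_cent hF hV hxV hx))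
      ((hcyc cV hxV).trans (piece_eq_cent hF hU hxU hx))
  -- two conjugates of the unipotent group
  have hshape : ∀ {W : Subgroup (SG hF)}, IsPiece hF W → (∀ y ∈ W, y ^ ((2 ^ (2 * m + 1)) ^ 2) = 1) → x ∈ W →
      ∃ g : SG hF, W = (unip (stdTwist hF)).map (MulAut.conj g).toMonoidHom := by
    intro W hW hp hxW
    rcases hW with h | ⟨g, rfl⟩ | ⟨p, z, hpr, hd, hz, rfl⟩
    · exact h
    · refine absurd (eq_one_of_coprime h1 (hp x hxW) (hpw hxW ?_)) hx
      rw [Subgroup.card_map_of_injective (MulAut.conj g).injective, card_torus, hF]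
    · exact absurd (eq_one_of_coprime h2 (hp x hxW) (hpw hxW (singer_card_dvd hF hpr hd hz))) hx
  obtain ⟨g, rfl⟩ := hshape hU pU hxU
  obtain ⟨k, rfl⟩ := hshape hV pV hxV
  obtain ⟨a, ha, rfl⟩ := hxU
  obtain ⟨b, hb, hab⟩ := hxV
  have hb1 : b ≠ 1 := fun h => hx (by rw [← hab, h, map_one])
  have hgk : g⁻¹ * k ∈ bor (stdTwist hF) := by
    have hab' : k * b * k⁻¹ = g * a * g⁻¹ := hab
    have e : g⁻¹ * k * b * (g⁻¹ * k)⁻¹ = a := by
      calc g⁻¹ * k * b * (g⁻¹ * k)⁻¹ = g⁻¹ * (k * b * k⁻¹) * g := by group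
        _ = a := by rw [hab']; group
    refine SzO.mem_bor_of_fixes (stdTwist hF) ha (fun h => hx (by rw [h, map_one])) ?_
    rw [← e]
    convert unip_le_bor (stdTwist hF) hb using 1
    group
  ext y
  constructor
  · rintro ⟨v, hv, rfl⟩
    refine ⟨(g⁻¹ * k)⁻¹ * v * (g⁻¹ * k), ?_, ?_⟩
    · simpa using bor_conj_unip (stdTwist hF) (inv_mem hgk) hv
    · simp [MulAut.conj_apply, mul_assoc]
  · rintro ⟨v, hv, rfl⟩
    refine ⟨g⁻¹ * k * v * (g⁻¹ * k)⁻¹, bor_conj_unip (stdTwist hF) hgk hv, ?_⟩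
    simp [MulAut.conj_apply, mul_assoc]

end Cfsg.Agent.SzC
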