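import Mathlib
import Cfsg.Agent.Lib.SzC.Facts

/-!
# Solvable subgroups
-/

set_option autoImplicit false

open scoped Matrix

namespace Cfsg.Agent.SzC

open Cfsg.Agent.SzB

variable {F : Type*} [Field F] [CharP F 2] [Fintype F] {m : ℕ} (hF : Fintype.card F = 2 ^ (2 * m + 1))

theorem piece_conj {U : Subgroup (SG hF)} (hU : IsPiece hF U) (g : SG hF) :
    IsPiece hF (U.map (MulAut.conj g).toMonoidHom) := by
  have hcomp : ∀ h : SG hF, ((MulAut.conj g).toMonoidHom).comp (MulAut.conj h).toMonoidHom =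
      (MulAut.conj (g * h)).toMonoidHom := fun h => by
    ext x; simp [mul_assoc]
  rcases hU with ⟨h, rfl⟩ | ⟨h, rfl⟩ | ⟨p, z, hp, hd, hz, rfl⟩
  · exact Or.inl ⟨g * h, by rw [Subgroup.map_map, hcomp]⟩
  · exact Or.inr (Or.inl ⟨g * h, by rw [Subgroup.map_map, hcomp]⟩)
  · refine Or.inr (Or.inr ⟨p, g * z * g⁻¹, hp, hd, ?_, conj_centralizer g z⟩)
    rw [show g * z * g⁻¹ = MulAut.conj g z from rfl, MulEquiv.orderOf_eq, hz]

/-- A solvable subgroup normalises a piece. -/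
theorem solvable_le_normalizer {H : Subgroup (SG hF)} (hs : Group.IsSolvable H) (hne : H ≠ ⊥) :
    ∃ U, IsPiece hF U ∧ H ≤ Subgroup.normalizer (U : Set (SG hF)) := by
  classical
  haveI := hs
  obtain ⟨n, hn⟩ := (Group.isSolvable_def H).mp hs
  have hex : ∃ k, derivedSeries H k = ⊥ := ⟨n, hn⟩
  set k := Nat.find hex with hk
  have hk0 : k ≠ 0 := by
    intro h
    have := Nat.find_spec hex
    rw [← hk, h, derivedSeries_zero] at this
    apply hne
    rw [Subgroup.eq_bot_iff_forall]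
    intro x hx
    have h1 : (⟨x, hx⟩ : H) ∈ (⊤ : Subgroup H) := Subgroup.mem_top _
    rw [this, Subgroup.mem_bot] at h1
    exact congrArg Subtype.val h1
  obtain ⟨j, hj⟩ := Nat.exists_eq_succ_of_ne_zero hk0
  set A := derivedSeries H j with hA
  have hAne : A ≠ ⊥ := fun h => by
    have := Nat.find_min' hex h
    omega
  have hab : ∀ a ∈ A, ∀ b ∈ A, a * b = b * a := by
    intro a ha b hb
    have h := Nat.find_spec hex
    rw [← hk, hj, derivedSeries_succ] at h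
    exact Subgroup.mem_centralizer_iff.mp (Subgroup.commutator_eq_bot_iff_le_centralizer.mp h hb) a ha
  haveI : A.Normal := derivedSeries_normal H j
  obtain ⟨⟨a, ha⟩, ha1⟩ := Subgroup.ne_bot_iff_exists_ne_one.mp hAne
  have haG : ((a : H) : SG hF) ≠ 1 := fun h => ha1 (Subtype.ext (Subtype.ext h))
  obtain ⟨U, hU, haU⟩ := exists_piece hF haG
  have hAU : ∀ b ∈ A, ((b : H) : SG hF) ∈ U := fun b hb =>
    piece_eq_cent hF hU haU haG (Subgroup.mem_centralizer_singleton_iff.mpr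
      (congrArg Subtype.val (hab b hb a ha)))
  refine ⟨U, hU, fun h hh => ?_⟩
  set hH : H := ⟨h, hh⟩
  have hb : hH * a * hH⁻¹ ∈ A := (inferInstance : A.Normal).conj_mem a ha hH
  have heq : U.map (MulAut.conj h).toMonoidHom = U := by
    refine piece_unique hF (piece_conj hF hU h) hU (x := h * (a : SG hF) * h⁻¹) ?_ (hAU _ hb) ?_
    · exact Subgroup.mem_map_of_mem (MulAut.conj h).toMonoidHom haU
    · intro e
      exact haG (by
        calc (a : SG hF) = h⁻¹ * (h * (a : SG hF) * h⁻¹) * h := by group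
          _ = 1 := by rw [e]; group)
  rw [Subgroup.mem_set_normalizer_iff]
  intro x
  constructor
  · intro hx
    show h * x * h⁻¹ ∈ U
    rw [← heq]
    exact Subgroup.mem_map_of_mem (MulAut.conj h).toMonoidHom hx
  · intro hx
    have hx' : h * x * h⁻¹ ∈ U.map (MulAut.conj h).toMonoidHom := by rw [heq]; exact hx
    obtain ⟨y, hy, e⟩ := hx'
    have e' : h * y * h⁻¹ = h * x * h⁻¹ := e
    have : y = x := mul_left_cancel (mul_right_cancel e')
    rw [← this]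
    exact hy

theorem normalizer_torus (hm : 1 ≤ m) :
    Subgroup.normalizer ((tS (stdTwist hF)).range : Set (SG hF)) = normT (stdTwist hF) := by
  set τ := stdTwist hF
  apply le_antisymm
  · intro g hg
    obtain ⟨v, hv⟩ := exists_unit_ne hm hF
    obtain ⟨v', hv'⟩ := (Subgroup.mem_set_normalizer_iff.mp hg (tS τ v)).mp ⟨v, rfl⟩
    rcases torus_norm τ hv hv'.symm with ⟨w, hw, -⟩ | ⟨w, hw, -⟩
    · exact ⟨w, Or.inl hw⟩
    · exact ⟨w, Or.inr hw⟩
  · intro g hg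
    rw [Subgroup.mem_set_normalizer_iff]
    intro x
    refine ⟨fun hx => normT_conj τ hg hx, fun hx => ?_⟩
    have := normT_conj τ ((normT τ).inv_mem hg) hx
    simpa [mul_assoc] using this

/-- A Frobenius type subgroup with small abelian complement. -/
structure Fam where
  N : Subgroup (SG hF)
  U : Subgroup (SG hF)
  le : U ≤ N
  piece : IsPiece hF U
  cyc : IsCyclic U
  nconj : ∀ g ∈ N, ∀ u ∈ U, g * u * g⁻¹ ∈ U
  ti : ∀ g u, u ∈ U → u ≠ 1 → g * u * g⁻¹ ∈ U → g ∈ N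
  normalizer_eq : Subgroup.normalizer (U : Set (SG hF)) = N
  odd : Odd (Nat.card U)
  ne_bot : Nat.card U ≠ 1
  e : ℕ
  he : e = 2 ∨ e = 4
  card : Nat.card N = e * Nat.card U

variable {hF} (Φ : Fam hF)

theorem Fam.cent_le {u : SG hF} (hu : u ∈ Φ.U) (hu1 : u ≠ 1) {x : SG hF} (hx : x * u = u * x) : x ∈ Φ.U :=
  piece_eq_cent hF Φ.piece hu hu1 (Subgroup.mem_centralizer_singleton_iff.mpr hx)

theorem Fam.quot_index : (Φ.U.subgroupOf Φ.N).index = Φ.e := by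
  have h := (Φ.U.subgroupOf Φ.N).card_mul_index
  rw [Nat.card_congr (Subgroup.subgroupOfEquivOfLe Φ.le).toEquiv, Φ.card] at h
  have : 0 < Nat.card Φ.U := Nat.card_pos
  nlinarith [Nat.eq_of_mul_eq_mul_left this (h.trans (mul_comm _ _))]

instance Fam.subgroupOf_normal : (Φ.U.subgroupOf Φ.N).Normal :=
  ⟨fun u hu g => Φ.nconj g g.2 u hu⟩

theorem Fam.pow_mem {y : SG hF} (hy : y ∈ Φ.N) : y ^ Φ.e ∈ Φ.U := by
  have h := Subgroup.pow_index_mem (Φ.U.subgroupOf Φ.N) (⟨y, hy⟩ : Φ.N)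
  rw [Φ.quot_index] at h
  exact h

theorem Fam.pow_eq_one {y : SG hF} (hy : y ∈ Φ.N) (hyU : y ∉ Φ.U) : y ^ Φ.e = 1 := by
  by_contra h
  exact hyU (Φ.cent_le (Φ.pow_mem hy) h ((Commute.refl y).pow_right _).eq)

theorem Fam.not_mem_of_pow_four {y : SG hF} (hy : y ^ 4 = 1) (hy1 : y ≠ 1) : y ∉ Φ.U := by
  intro hU
  have h1 : (⟨y, hU⟩ : Φ.U) ^ 4 = 1 := Subtype.ext hy
  have h2 := orderOf_dvd_of_pow_eq_one h1
  have h3 := orderOf_dvd_natCard (⟨y, hU⟩ : Φ.U)
  have hco : Nat.Coprime (2 ^ 2) (Nat.card Φ.U) := by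
    apply Nat.Coprime.pow_left
    rw [Nat.prime_two.coprime_iff_not_dvd]
    intro h
    exact (Nat.not_even_iff_odd.mpr Φ.odd) (even_iff_two_dvd.mpr h)
  have : orderOf (⟨y, hU⟩ : Φ.U) = 1 := Nat.eq_one_of_dvd_coprimes hco (h2.trans (by norm_num)) h3
  exact hy1 (congrArg Subtype.val (orderOf_eq_one_iff.mp this))

theorem Fam.commutator_mem {a b : SG hF} (ha : a ∈ Φ.N) (hb : b ∈ Φ.N) : a * b * a⁻¹ * b⁻¹ ∈ Φ.U := by
  haveI : Fact (Nat.Prime 2) := ⟨Nat.prime_two⟩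
  let Q := Φ.N ⧸ Φ.U.subgroupOf Φ.N
  have hQ : Nat.card Q = Φ.e := Φ.quot_index
  have hcomm : ∀ p r : Q, p * r = r * p := by
    rcases Φ.he with he | he
    · haveI : IsCyclic Q := isCyclic_of_prime_card (p := 2) (hQ.trans he)
      exact fun p r => IsCyclic.commGroup.mul_comm p r
    · exact fun p r => (IsPGroup.commGroupOfCardEqPrimeSq (G := Q) (p := 2)
        (hQ.trans (he.trans (by norm_num)))).mul_comm p r
  have h := hcomm (QuotientGroup.mk (⟨a, ha⟩ : Φ.N)) (QuotientGroup.mk (⟨b, hb⟩ : Φ.N))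
  rw [← QuotientGroup.mk_mul, ← QuotientGroup.mk_mul, eq_comm, QuotientGroup.eq] at h
  have h' : (b * a)⁻¹ * (a * b) ∈ Φ.U := h
  have := Φ.nconj (b * a) (mul_mem hb ha) _ h'
  convert this using 1
  group

theorem Fam.inv_unique {s s' : SG hF} (hs : s ∈ Φ.N) (hs2 : s * s = 1) (hs1 : s ≠ 1) (hs' : s' ∈ Φ.N)
    (hs'2 : s' * s' = 1) (hs'1 : s' ≠ 1) : s * s' ∈ Φ.U := by
  -- both invert the core
  have hinv : ∀ t, t ∈ Φ.N → t * t = 1 → t ≠ 1 → ∀ u ∈ Φ.U, t * u * t⁻¹ = u⁻¹ := by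
    intro t ht ht2 ht1 u hu
    have ht' : t⁻¹ = t := inv_eq_of_mul_eq_one_right ht2
    have htU : t ∉ Φ.U := Φ.not_mem_of_pow_four (by
      rw [show t ^ 4 = t * t * (t * t) by simp [pow_succ, mul_assoc], ht2, one_mul]) ht1
    have hv : t * u * t⁻¹ * u ∈ Φ.U := mul_mem (Φ.nconj t ht u hu) hu
    have hc : t * (t * u * t⁻¹ * u) = t * u * t⁻¹ * u * t := by
      haveI := Φ.cyc
      have hcm : t * u * t⁻¹ * u = u * (t * u * t⁻¹) :=
        congrArg Subtype.val (IsCyclic.commGroup.mul_comm (⟨_, Φ.nconj t ht u hu⟩ : Φ.U) ⟨u, hu⟩)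
      calc t * (t * u * t⁻¹ * u) = t * t * u * t⁻¹ * u := by group
        _ = u * t * u := by rw [ht2, one_mul, ht']
        _ = u * (t * u * t⁻¹) * t := by group
        _ = _ := by rw [← hcm]
    by_contra hne
    exact htU (Φ.cent_le hv (fun h => hne (eq_inv_of_mul_eq_one_left h)) hc)
  haveI := Φ.cyc
  obtain ⟨u, hu, hu1⟩ : ∃ u ∈ Φ.U, u ≠ 1 := by
    by_contra hcon
    push Not at hcon
    exact Φ.ne_bot (Subgroup.card_eq_one.mpr ((Subgroup.eq_bot_iff_forall _).mpr hcon))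
  refine Φ.cent_le hu hu1 ?_
  have e1 := hinv s hs hs2 hs1 _ (inv_mem hu)
  have e2 := hinv s' hs' hs'2 hs'1 u hu
  rw [inv_inv] at e1
  calc s * s' * u = s * (s' * u * s'⁻¹) * s' := by group
    _ = s * u⁻¹ * s' := by rw [e2]
    _ = (s * u⁻¹ * s⁻¹) * (s * s') := by group
    _ = _ := by rw [e1]

theorem Fam.self_normalizing {g : SG hF} (h : ∀ x ∈ Φ.N, g * x * g⁻¹ ∈ Φ.N) : g ∈ Φ.N := by
  obtain ⟨u, hu, hu1⟩ : ∃ u ∈ Φ.U, u ≠ 1 := by
    by_contra hcon
    push Not at hcon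
    exact Φ.ne_bot (Subgroup.card_eq_one.mpr ((Subgroup.eq_bot_iff_forall _).mpr hcon))
  refine Φ.ti g u hu hu1 ?_
  by_contra hn
  have h4 := Φ.pow_eq_one (h u (Φ.le hu)) hn
  have hu4 : u ^ Φ.e = 1 := by
    rw [conj_pow] at h4
    calc u ^ Φ.e = g⁻¹ * (g * u ^ Φ.e * g⁻¹) * g := by group
      _ = 1 := by rw [h4]; group
  refine Φ.not_mem_of_pow_four ?_ hu1 hu
  rcases Φ.he with he | he <;> rw [he] at hu4
  · rw [show u ^ 4 = u ^ 2 * u ^ 2 by rw [← pow_add], hu4, one_mul]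
  · exact hu4

end Cfsg.Agent.SzC
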