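import Mathlib
import Cfsg.Agent.Lib.SzC.Solvable
import Cfsg.Agent.Lib.SzO.Sylow

/-!
# Counting the members of a family through an element
-/

set_option autoImplicit false

open scoped Matrix

namespace Cfsg.Agent.SzC

open Cfsg.Agent.SzB

/-- fixed cosets and conjugates inside a subgroup -/
theorem fixed_count {G : Type*} [Group G] [Finite G] (N : Subgroup G) (x : G) :
    Nat.card {a : G ⧸ N // x • a = a} * Nat.card N =
      Nat.card (Subgroup.centralizer ({x} : Set G)) * {y | y ∈ N ∧ IsConj x y}.ncard := by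
  classical
  set S : Set G := {g | g⁻¹ * x * g ∈ N}
  have h1 : Nat.card {a : G ⧸ N // x • a = a} * Nat.card N = Nat.card S := by
    have hS : S = QuotientGroup.mk ⁻¹' {a : G ⧸ N | x • a = a} := by
      ext g
      show g⁻¹ * x * g ∈ N ↔ x • (QuotientGroup.mk g : G ⧸ N) = QuotientGroup.mk g
      rw [MulAction.Quotient.smul_mk, smul_eq_mul, eq_comm, QuotientGroup.eq, mul_assoc]
    rw [hS, Nat.card_congr (QuotientGroup.preimageMkEquivSubgroupProdSet N _), Nat.card_prod, mul_comm]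
    rfl
  rw [h1, ← Nat.card_coe_set_eq, ← Nat.card_prod]
  let rep : {y | y ∈ N ∧ IsConj x y} → G := fun y => (isConj_iff.mp y.2.2).choose
  have hrep : ∀ y : {y | y ∈ N ∧ IsConj x y}, rep y * x * (rep y)⁻¹ = y.1 := fun y =>
    (isConj_iff.mp y.2.2).choose_spec
  let f : Subgroup.centralizer ({x} : Set G) × {y | y ∈ N ∧ IsConj x y} → S := fun p =>
    ⟨(p.1 : G) * (rep p.2)⁻¹, by
      show ((p.1 : G) * (rep p.2)⁻¹)⁻¹ * x * ((p.1 : G) * (rep p.2)⁻¹) ∈ N
      have hc := Subgroup.mem_centralizer_singleton_iff.mp p.1.2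
      have e : ((p.1 : G) * (rep p.2)⁻¹)⁻¹ * x * ((p.1 : G) * (rep p.2)⁻¹) = p.2.1 := by
        rw [← hrep p.2]
        calc ((p.1 : G) * (rep p.2)⁻¹)⁻¹ * x * ((p.1 : G) * (rep p.2)⁻¹)
            = rep p.2 * ((p.1 : G)⁻¹ * (x * (p.1 : G))) * (rep p.2)⁻¹ := by group
          _ = _ := by rw [← hc, inv_mul_cancel_left]
      rw [e]
      exact p.2.2.1⟩
  refine (Nat.card_congr (Equiv.ofBijective f ⟨?_, ?_⟩)).symm
  · rintro ⟨c, y⟩ ⟨c', y'⟩ h
    have h' : (c : G) * (rep y)⁻¹ = (c' : G) * (rep y')⁻¹ := congrArg Subtype.val h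
    have key : ∀ (c : Subgroup.centralizer ({x} : Set G)) (y : {y | y ∈ N ∧ IsConj x y}),
        ((c : G) * (rep y)⁻¹)⁻¹ * x * ((c : G) * (rep y)⁻¹) = y.1 := by
      intro c y
      have hc := Subgroup.mem_centralizer_singleton_iff.mp c.2
      rw [← hrep y]
      calc ((c : G) * (rep y)⁻¹)⁻¹ * x * ((c : G) * (rep y)⁻¹)
          = rep y * ((c : G)⁻¹ * (x * (c : G))) * (rep y)⁻¹ := by group
        _ = _ := by rw [← hc, inv_mul_cancel_left]
    have hy : y = y' := Subtype.ext (by rw [← key c y, ← key c' y', h'])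
    subst hy
    have : (c : G) = c' := mul_right_cancel h'
    obtain rfl : c = c' := Subtype.ext this
    rfl
  · rintro ⟨g, hg⟩
    set y : {y | y ∈ N ∧ IsConj x y} := ⟨g⁻¹ * x * g, hg, isConj_iff.mpr ⟨g⁻¹, by rw [inv_inv]⟩⟩
    refine ⟨(⟨g * rep y, ?_⟩, y), Subtype.ext ?_⟩
    · rw [Subgroup.mem_centralizer_singleton_iff]
      calc g * rep y * x = g * (rep y * x * (rep y)⁻¹) * rep y := by group
        _ = g * (g⁻¹ * x * g) * rep y := by rw [hrep y]
        _ = _ := by group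
    · show g * rep y * (rep y)⁻¹ = g
      group

variable {F : Type*} [Field F] [CharP F 2] [Fintype F] {m : ℕ} (hm : 1 ≤ m)
  (hF : Fintype.card F = 2 ^ (2 * m + 1))

/-- the family of split torus normalisers -/
def famT : Fam hF where
  N := normT (stdTwist hF)
  U := (tS (stdTwist hF)).range
  le := by rintro _ ⟨u, rfl⟩; exact ⟨u, Or.inl rfl⟩
  piece := Or.inr (Or.inl ⟨1, by
    ext x
    constructor
    · intro hx; exact ⟨x, hx, by simp⟩
    · rintro ⟨y, hy, rfl⟩; simpa using hy⟩)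
  cyc := torus_cyclic hF
  nconj := fun g hg u hu => normT_conj _ hg hu
  ti := fun g u hu hu1 hg => by
    obtain ⟨v, rfl⟩ := hu
    obtain ⟨v', hv'⟩ := hg
    have hv : v ≠ 1 := by rintro rfl; exact hu1 (map_one _)
    rcases torus_norm _ hv hv'.symm with ⟨w, hw, -⟩ | ⟨w, hw, -⟩
    · exact ⟨w, Or.inl hw⟩
    · exact ⟨w, Or.inr hw⟩
  normalizer_eq := normalizer_torus hF hm
  odd := by
    rw [card_torus, hF]
    exact Nat.Even.sub_odd Nat.one_le_two_pow (by simp [Nat.even_pow]) odd_one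
  ne_bot := by
    rw [card_torus, hF]
    have : 2 ^ 3 ≤ 2 ^ (2 * m + 1) := Nat.pow_le_pow_right (by norm_num) (by omega)
    omega
  e := 2
  he := Or.inl rfl
  card := by rw [card_normT, card_torus]

/-- the family of an exceptional torus normaliser -/
def famS {p : ℕ} (hp : p.Prime) (hdvd : p ∣ (2 ^ (2 * m + 1)) ^ 2 + 1) (z : SG hF) (hz : orderOf z = p) :
    Fam hF where
  N := Subgroup.normalizer (Subgroup.centralizer ({z} : Set (SG hF)) : Set (SG hF))
  U := Subgroup.centralizer ({z} : Set (SG hF))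
  le := Subgroup.le_normalizer
  piece := Or.inr (Or.inr ⟨p, z, hp, hdvd, hz, rfl⟩)
  cyc := cent_cyclic hF hp hdvd hz
  nconj := fun g hg u hu => (Subgroup.mem_set_normalizer_iff.mp hg u).mp hu
  ti := singer_ti hF hp hdvd hz
  normalizer_eq := rfl
  odd := by
    refine (Nat.odd_add_one.mpr (Nat.not_odd_iff_even.mpr ?_) : Odd ((2 ^ (2 * m + 1)) ^ 2 + 1)).of_dvd_nat
      (singer_card_dvd hF hp hdvd hz)
    simp [Nat.even_pow]
  ne_bot := by
    have := five_le_singer hF hp hdvd hz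
    omega
  e := 4
  he := Or.inr rfl
  card := (singer_card_cases hF hm hp hdvd hz).2

variable {hF} (Φ : Fam hF)

theorem Fam.exists_involution : ∃ s ∈ Φ.N, s * s = 1 ∧ s ≠ 1 := by
  haveI : Fact (Nat.Prime 2) := ⟨Nat.prime_two⟩
  obtain ⟨s, hs⟩ := exists_prime_orderOf_dvd_card' (G := Φ.N) 2 (by
    rw [Φ.card]; rcases Φ.he with h | h <;> rw [h] <;> exact Dvd.dvd.mul_right (by norm_num) _)
  refine ⟨s, s.2, ?_, fun h => ?_⟩
  · have := pow_orderOf_eq_one s
    rw [hs, pow_two] at this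
    exact congrArg Subtype.val this
  · rw [show s = 1 from Subtype.ext h, orderOf_one] at hs
    norm_num at hs

theorem Fam.involution_count : {y | y ∈ Φ.N ∧ orderOf y = 2}.ncard = Nat.card Φ.U := by
  obtain ⟨s, hs, hs2, hs1⟩ := Φ.exists_involution
  have hset : {y | y ∈ Φ.N ∧ orderOf y = 2} = (fun u => s * u) '' (Φ.U : Set (SG hF)) := by
    ext y
    constructor
    · rintro ⟨hy, hy2⟩
      have hy2' : y * y = 1 := by rw [← pow_two, ← hy2, pow_orderOf_eq_one]
      refine ⟨s * y, Φ.inv_unique hs hs2 hs1 hy hy2' (fun h => by rw [h, orderOf_one] at hy2; norm_num at hy2), ?_⟩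
      show s * (s * y) = y
      rw [← mul_assoc, hs2, one_mul]
    · rintro ⟨u, hu, rfl⟩
      have hsU : s ∉ Φ.U := Φ.not_mem_of_pow_four (by
        rw [show s ^ 4 = s * s * (s * s) by simp [pow_succ, mul_assoc], hs2, one_mul]) hs1
      have hsu : s * u ∉ Φ.U := fun h => hsU (by have := mul_mem h (inv_mem hu); rwa [mul_inv_cancel_right] at this)
      refine ⟨mul_mem hs (Φ.le hu), orderOf_eq_prime ?_ (fun h => hsu ((show s * u = 1 from h).symm ▸ one_mem _))⟩
      -- squares land in the core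
      have hsq : (s * u) * (s * u) ∈ Φ.U := by
        have h1 := Φ.nconj s hs u hu
        have e : s * u * (s * u) = s * u * s⁻¹ * ((s * s) * u) := by group
        rw [e, hs2, one_mul]
        exact mul_mem h1 hu
      rw [pow_two]
      by_contra h
      exact hsu (Φ.cent_le hsq h (by group))
  rw [hset, Set.ncard_image_of_injective _ (mul_right_injective s), ← Nat.card_coe_set_eq]
  rfl

theorem Fam.four_count (he : Φ.e = 4) : {y | y ∈ Φ.N ∧ orderOf y = 4}.ncard = 2 * Nat.card Φ.U := by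
  classical
  haveI : Fintype (SG hF) := Fintype.ofFinite _
  have hN : {y | y ∈ Φ.N ∧ orderOf y = 4} =
      (Φ.N : Set (SG hF)) \ ((Φ.U : Set (SG hF)) ∪ {y | y ∈ Φ.N ∧ orderOf y = 2}) := by
    ext y
    constructor
    · rintro ⟨hy, hy4⟩
      refine ⟨hy, ?_⟩
      rintro (h | ⟨-, h⟩)
      · exact Φ.not_mem_of_pow_four (by have := pow_orderOf_eq_one y; rwa [hy4] at this)
          (fun e => by rw [e, orderOf_one] at hy4; norm_num at hy4) h
      · omega
    · rintro ⟨hy, hn⟩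
      have hyU : y ∉ Φ.U := fun h => hn (Or.inl h)
      refine ⟨hy, ?_⟩
      have h := orderOf_dvd_of_pow_eq_one (he ▸ Φ.pow_eq_one hy hyU)
      have h2 : orderOf y ≠ 2 := fun h => hn (Or.inr ⟨hy, h⟩)
      have h1 : orderOf y ≠ 1 := fun h => hyU (orderOf_eq_one_iff.mp h ▸ one_mem _)
      have hle := Nat.le_of_dvd (by norm_num) h
      have hpos := orderOf_pos y
      interval_cases hh : orderOf y <;> omega
  have hdisj : Disjoint (Φ.U : Set (SG hF)) {y | y ∈ Φ.N ∧ orderOf y = 2} := by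
    rw [Set.disjoint_left]
    rintro y hy ⟨-, h⟩
    refine Φ.not_mem_of_pow_four ?_ (fun e => by rw [e, orderOf_one] at h; norm_num at h) hy
    have e : y ^ 4 = (y ^ 2) ^ 2 := by rw [← pow_mul]
    have h2 : y ^ 2 = 1 := by rw [← h]; exact pow_orderOf_eq_one y
    rw [e, h2, one_pow]
  rw [hN, Set.ncard_sdiff (by rintro y (h | h); exacts [Φ.le h, h.1]), Set.ncard_union_eq hdisj,
    Φ.involution_count, ← Nat.card_coe_set_eq, ← Nat.card_coe_set_eq]
  change Nat.card Φ.N - (Nat.card Φ.U + Nat.card Φ.U) = _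
  rw [Φ.card, he]
  omega

theorem Fam.exists_sqrt (he : Φ.e = 4) {s : SG hF} (hs : s ∈ Φ.N) (ho : orderOf s = 2) :
    ∃ y ∈ Φ.N, y * y = s := by
  classical
  haveI : Fintype (SG hF) := Fintype.ofFinite _
  obtain ⟨y, hy, hy4⟩ : ∃ y, y ∈ Φ.N ∧ orderOf y = 4 := by
    have h := Φ.four_count he
    have hpos : 0 < Nat.card Φ.U := Nat.card_pos
    obtain ⟨y, hy⟩ := Set.nonempty_of_ncard_ne_zero (show {y | y ∈ Φ.N ∧ orderOf y = 4}.ncard ≠ 0 by omega)
    exact ⟨y, hy⟩
  set t := y * y with ht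
  have hy4' : y ^ 4 = 1 := by have := pow_orderOf_eq_one y; rwa [hy4] at this
  have ht2 : t * t = 1 := by rw [← hy4', ht]; simp [pow_succ, mul_assoc]
  have ht1 : t ≠ 1 := fun h => by
    have := orderOf_dvd_of_pow_eq_one (show y ^ 2 = 1 by rw [pow_two]; exact h)
    rw [hy4] at this
    norm_num at this
  have htN : t ∈ Φ.N := mul_mem hy hy
  have hs2 : s * s = 1 := by rw [← pow_two, ← ho, pow_orderOf_eq_one]
  have hs1 : s ≠ 1 := fun h => by rw [h, orderOf_one] at ho; norm_num at ho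
  have hw : t * s ∈ Φ.U := Φ.inv_unique htN ht2 ht1 hs hs2 hs1
  have htt : t⁻¹ = t := inv_eq_of_mul_eq_one_right ht2
  have hodd : Nat.Coprime 2 (Nat.card Φ.U) := Nat.prime_two.coprime_iff_not_dvd.mpr fun h =>
    (Nat.not_even_iff_odd.mpr Φ.odd) (even_iff_two_dvd.mpr h)
  set v : Φ.U := (powCoprime hodd.symm).symm ⟨t * s, hw⟩ with hv
  have hv2 : (v : SG hF) * v = t * s := by
    have := (powCoprime hodd.symm).apply_symm_apply (⟨t * s, hw⟩ : Φ.U)
    rw [powCoprime_apply, ← hv, pow_two] at this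
    exact congrArg Subtype.val this
  -- conjugate the square root
  have htU : t ∉ Φ.U := Φ.not_mem_of_pow_four (by
    rw [show t ^ 4 = t * t * (t * t) by simp [pow_succ, mul_assoc], ht2, one_mul]) ht1
  have hinv : t * (v : SG hF) * t⁻¹ = (v : SG hF)⁻¹ := by
    have hvm : t * (v : SG hF) * t⁻¹ * v ∈ Φ.U := mul_mem (Φ.nconj t htN v v.2) v.2
    by_contra hne
    refine htU (Φ.cent_le hvm (fun h => hne (eq_inv_of_mul_eq_one_left h)) ?_)
    haveI := Φ.cyc
    have hcm : t * (v : SG hF) * t⁻¹ * v = v * (t * (v : SG hF) * t⁻¹) :=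
      congrArg Subtype.val (IsCyclic.commGroup.mul_comm (⟨_, Φ.nconj t htN v v.2⟩ : Φ.U) v)
    calc t * (t * (v : SG hF) * t⁻¹ * v) = t * t * (v : SG hF) * t⁻¹ * v := by group
      _ = (v : SG hF) * t * v := by rw [ht2, one_mul, htt]
      _ = (v : SG hF) * (t * (v : SG hF) * t⁻¹) * t := by group
      _ = _ := by rw [← hcm]
  refine ⟨(v : SG hF)⁻¹ * y * v, mul_mem (mul_mem (inv_mem (Φ.le v.2)) hy) (Φ.le v.2), ?_⟩
  calc (v : SG hF)⁻¹ * y * v * ((v : SG hF)⁻¹ * y * v) = (v : SG hF)⁻¹ * t * v := by rw [ht]; group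
    _ = t * v * t⁻¹ * t * v := by rw [hinv]
    _ = t * ((v : SG hF) * v) := by group
    _ = s := by rw [hv2, ← mul_assoc, ht2, one_mul]

theorem Fam.cent_card {x : SG hF} (hx : x ∈ Φ.N) (hx4 : x ^ 4 = 1) (hx1 : x ≠ 1) :
    {y | y ∈ Φ.N ∧ y * x = x * y}.ncard = Φ.e := by
  classical
  haveI : Fintype (SG hF) := Fintype.ofFinite _
  have hxU := Φ.not_mem_of_pow_four hx4 hx1
  set C : Subgroup (SG hF) := Φ.N ⊓ Subgroup.centralizer ({x} : Set (SG hF))
  have hset : {y | y ∈ Φ.N ∧ y * x = x * y} = (C : Set (SG hF)) := by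
    ext y
    simp [C, Subgroup.mem_centralizer_singleton_iff]
  rw [hset, ← Nat.card_coe_set_eq]
  change Nat.card C = Φ.e
  have hle : Nat.card C ≤ Φ.e := by
    rw [← Φ.quot_index, Subgroup.index]
    refine Nat.card_le_card_of_injective
      (fun y : C => (QuotientGroup.mk (⟨y.1, y.2.1⟩ : Φ.N) : Φ.N ⧸ Φ.U.subgroupOf Φ.N)) ?_
    rintro ⟨a, ha⟩ ⟨b, hb⟩ h
    have h' : a⁻¹ * b ∈ Φ.U := (QuotientGroup.eq (s := Φ.U.subgroupOf Φ.N) (a := ⟨a, ha.1⟩) (b := ⟨b, hb.1⟩)).mp h
    apply Subtype.ext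
    by_contra hne
    apply hxU
    refine Φ.cent_le h' (fun h => hne (inv_mul_eq_one.mp h)) ?_
    have hc : Commute (a⁻¹ * b) x :=
      ((show Commute a x from Subgroup.mem_centralizer_singleton_iff.mp ha.2).inv_left).mul_left
        (Subgroup.mem_centralizer_singleton_iff.mp hb.2)
    exact hc.symm.eq
  have hz : ∀ y ∈ C, orderOf y ≤ Nat.card C := fun y hy =>
    Nat.le_of_dvd Nat.card_pos (Subgroup.orderOf_dvd_natCard C hy)
  have hxC : x ∈ C := ⟨hx, Subgroup.mem_centralizer_singleton_iff.mpr rfl⟩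
  have hxo := hz x hxC
  have hd := orderOf_dvd_of_pow_eq_one hx4
  have h1 : orderOf x ≠ 1 := fun h => hx1 (orderOf_eq_one_iff.mp h)
  have h14 := Nat.le_of_dvd (by norm_num) hd
  have hpos := orderOf_pos x
  rcases Φ.he with he | he
  · omega
  · have hcase : orderOf x = 2 ∨ orderOf x = 4 := by interval_cases hh : orderOf x <;> omega
    rcases hcase with h | h
    · obtain ⟨y, hy, hyy⟩ := Φ.exists_sqrt he hx h
      have hyC : y ∈ C := ⟨hy, Subgroup.mem_centralizer_singleton_iff.mpr (by rw [← hyy]; group)⟩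
      have hy4 : orderOf y = 4 := by
        refine orderOf_eq_prime_pow (p := 2) (n := 1) ?_ ?_ |>.trans (by norm_num)
        · rw [pow_one, pow_two, hyy]; exact hx1
        · rw [show 2 ^ (1 + 1) = 2 * 2 from rfl, pow_mul, pow_two y, hyy, ← h, pow_orderOf_eq_one]
      have := hz y hyC
      omega
    · omega

end Cfsg.Agent.SzC
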