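import Mathlib
import Cfsg.Agent.Lib.SzC.Facts

/-!
# Classes of elements of order 2 and 4
-/

set_option autoImplicit false

open scoped Matrix

namespace Cfsg.Agent.SzC

open Cfsg.Agent.SzB

variable {F : Type*} [Field F] [CharP F 2] [Fintype F] {m : ℕ} (hF : Fintype.card F = 2 ^ (2 * m + 1))

theorem th_fixed {x : F} (h : (stdTwist hF).th x = x) : x = 0 ∨ x = 1 := by
  have h2 := (stdTwist hF).th_th x
  rw [h, h] at h2
  by_cases hx : x = 0
  · exact Or.inl hx
  · right
    have : x * x = x * 1 := by rw [mul_one, ← pow_two, ← h2]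
    exact mul_left_cancel₀ hx this

theorem th_bijective : Function.Bijective (stdTwist hF).th :=
  Finite.injective_iff_bijective.mp (stdTwist hF).th.injective

theorem sc_eq_one {g : SG hF} (hg : g ∈ bor (stdTwist hF)) (h : sc (stdTwist hF) g = 1) :
    g ∈ unip (stdTwist hF) := by
  set τ := stdTwist hF
  obtain ⟨u, a, b, rfl⟩ := (mem_bor_iff τ).mp hg
  rw [sc_mul τ (tS_mem_bor τ u) (uS_mem_bor τ a b), sc_tS, sc_uS, mul_one] at h
  rw [show u = 1 from Units.ext h, map_one, one_mul]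
  exact ⟨a, b, rfl⟩

theorem two_elt_mem_conj {x : SG hF} (hx : x ≠ 1) (h : x ^ 4 = 1) :
    x ∈ conjSet (unip (stdTwist hF)) := by
  have key : ∀ {k : ℕ}, Odd k → x ^ k = 1 → False := by
    intro k hk hxk
    have h2 : Nat.Coprime 4 k := (Nat.Coprime.pow_left 2 (Nat.prime_two.coprime_iff_not_dvd.mpr
      (fun h => (Nat.not_even_iff_odd.mpr hk) (even_iff_two_dvd.mpr h))) : Nat.Coprime (2 ^ 2) k)
    exact hx (orderOf_eq_one_iff.mp (Nat.eq_one_of_dvd_coprimes h2 (orderOf_dvd_of_pow_eq_one h)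
      (orderOf_dvd_of_pow_eq_one hxk)))
  rcases trichotomy hF hx with h1 | ⟨-, g, hg⟩ | ⟨-, h3⟩
  · exact h1
  · refine (key (k := 2 ^ (2 * m + 1) - 1) (Nat.Even.sub_odd Nat.one_le_two_pow (by simp [Nat.even_pow]) odd_one) ?_).elim
    have hp := pow_card_eq_one' (x := (⟨_, hg⟩ : (tS (stdTwist hF)).range))
    rw [card_torus, hF] at hp
    exact conj_pow_eq_one (congrArg Subtype.val hp)
  · exact (key (Even.add_odd (by simp [Nat.even_pow]) odd_one) h3).elim

theorem uS_sq (a b : F) : uS (stdTwist hF) a b ^ 2 = uS (stdTwist hF) 0 ((stdTwist hF).th a * a) := by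
  rw [pow_two, uS_mul, CharTwo.add_self_eq_zero, CharTwo.add_self_eq_zero, zero_add]

theorem involution_conj {x : SG hF} (h : orderOf x = 2) : IsConj x (uS (stdTwist hF) 0 1) := by
  set τ := stdTwist hF
  have hx1 : x ≠ 1 := fun e => by rw [e, orderOf_one] at h; norm_num at h
  have hx2 : x ^ 2 = 1 := by rw [← h, pow_orderOf_eq_one]
  obtain ⟨-, g, a, b, hab⟩ := two_elt_mem_conj hF hx1 (by rw [show x ^ 4 = x ^ (2 * 2) from rfl, pow_mul, hx2, one_pow])
  have hy2 : (g⁻¹ * x * g) ^ 2 = 1 := by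
    calc (g⁻¹ * x * g) ^ 2 = g⁻¹ * x ^ 2 * g := by simp [pow_succ, mul_assoc]
      _ = 1 := by rw [hx2]; group
  rw [hab] at hy2
  obtain rfl := SzO.sq_eq_one τ hy2
  have hb : b ≠ 0 := fun hb => hx1 (by
    rw [hb, uS_zero] at hab
    calc x = g * (g⁻¹ * x * g) * g⁻¹ := by group
      _ = 1 := by rw [hab]; group)
  obtain ⟨v, hv⟩ := (th_bijective hF).2 b
  have hv0 : v ≠ 0 := fun e => hb (by rw [← hv, e, map_zero])
  refine (isConj_iff.mpr ⟨g⁻¹, by rw [inv_inv, hab]⟩ : IsConj x (uS τ 0 b)).trans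
    (isConj_iff.mpr ⟨tS τ (Units.mk0 v hv0)⁻¹, ?_⟩)
  rw [tS_uS]
  simp only [zero_mul, zero_div, inv_inv, Units.val_mk0]
  rw [hv, div_self hb]

theorem cent_involution : Nat.card (Subgroup.centralizer ({uS (stdTwist hF) 0 1} : Set (SG hF))) =
    (2 ^ (2 * m + 1)) ^ 2 := by
  set τ := stdTwist hF
  have : Subgroup.centralizer ({uS τ 0 1} : Set (SG hF)) = unip τ := by
    ext x
    rw [Subgroup.mem_centralizer_singleton_iff]
    refine ⟨fun h => cent_center τ one_ne_zero h, ?_⟩
    rintro ⟨a, b, rfl⟩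
    rw [uS_mul, uS_mul, map_zero, zero_mul, mul_zero, add_zero, add_zero, zero_add, add_comm b]
    simp
  rw [this, card_unip, hF]

theorem cent_four : Nat.card (Subgroup.centralizer ({uS (stdTwist hF) 1 0} : Set (SG hF))) =
    2 * 2 ^ (2 * m + 1) := by
  classical
  set τ := stdTwist hF
  let e : Bool × F → Subgroup.centralizer ({uS τ 1 0} : Set (SG hF)) := fun p =>
    ⟨uS τ (if p.1 then 1 else 0) p.2, by
      rw [Subgroup.mem_centralizer_singleton_iff, uS_mul, uS_mul]
      rcases p with ⟨_ | _, b⟩ <;> simp⟩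
  have he : Function.Bijective e := by
    constructor
    · rintro ⟨c, b⟩ ⟨c', b'⟩ h
      obtain ⟨h1, h2⟩ := uS_inj τ (congrArg Subtype.val h)
      cases c <;> cases c' <;> simp_all
    · rintro ⟨x, hx⟩
      rw [Subgroup.mem_centralizer_singleton_iff] at hx
      obtain ⟨a, b, rfl⟩ := unip_cent hF (uS τ 1 0) ⟨1, 0, rfl⟩
        (fun e => one_ne_zero (uS_inj τ (e.trans (uS_zero τ).symm)).1) hx
      have h := hx
      rw [uS_mul, uS_mul] at h
      have h' := (uS_inj τ h).2
      simp only [map_one, one_mul, mul_one, add_zero, zero_add] at h'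
      rcases th_fixed hF (add_left_cancel h') with rfl | rfl
      · exact ⟨⟨false, b⟩, Subtype.ext (show uS τ (if false = true then (1 : F) else 0) b = uS τ 0 b by simp)⟩
      · exact ⟨⟨true, b⟩, Subtype.ext (show uS τ (if true = true then (1 : F) else 0) b = uS τ 1 b by simp)⟩
  rw [← Nat.card_congr (Equiv.ofBijective e he), Nat.card_prod, Nat.card_eq_fintype_card, Fintype.card_bool,
    Nat.card_eq_fintype_card, hF]

/-- the map `p ↦ θ p + p` -/
def shift : F →+ F := (stdTwist hF).th.toAddMonoidHom + AddMonoidHom.id F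

theorem shift_ne_one (p : F) : shift hF p ≠ 1 := by
  intro h
  have h' : (stdTwist hF).th p + p = 1 := h
  have h1 := congrArg (stdTwist hF).th h'
  rw [map_add, map_one, Twist.th_th] at h1
  have h2 : p ^ 2 + p = 0 := by linear_combination (norm := ring_nf) h1 - h' + CharTwo.add_self_eq_zero p
  have h3 : p = 0 ∨ p = 1 := by
    by_cases hp : p = 0
    · exact Or.inl hp
    · right
      have : p * p = p * 1 := by rw [mul_one, ← pow_two]; exact CharTwo.add_eq_zero.mp h2
      exact mul_left_cancel₀ hp this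
  rcases h3 with rfl | rfl
  · rw [map_zero, add_zero] at h'; exact zero_ne_one h'
  · rw [map_one, CharTwo.add_self_eq_zero] at h'; exact zero_ne_one h'

theorem shift_cases (b : F) : (∃ p, shift hF p = b) ∨ ∃ p, shift hF p = b + 1 := by
  classical
  by_contra h
  push Not at h
  let g : F × Bool → F := fun q => shift hF q.1 + (if q.2 then 1 else 0)
  have hker : ∀ p, shift hF p = 0 → p = 0 ∨ p = 1 := fun p hp => th_fixed hF (CharTwo.add_eq_zero.mp hp)
  have hidx : (shift hF).range.index = 2 := by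
    have hk : Nat.card (shift hF).ker = 2 := by
      have hset : ((shift hF).ker : Set F) = {0, 1} := by
        ext p
        refine ⟨fun hp => by simpa using hker p hp, ?_⟩
        rintro (rfl | hp)
        · exact map_zero _
        · rw [Set.mem_singleton_iff] at hp
          subst hp
          show (stdTwist hF).th 1 + 1 = 0
          rw [map_one, CharTwo.add_self_eq_zero]
      rw [← SetLike.coe_sort_coe, hset, Nat.card_coe_set_eq, Set.ncard_pair zero_ne_one]
    have h1 := (shift hF).ker.card_mul_index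
    rw [AddSubgroup.index_ker, hk] at h1
    have h2 := (shift hF).range.card_mul_index
    have hpos : 0 < Nat.card (shift hF).range := Nat.card_pos
    nlinarith
  rcases h with ⟨h1, h2⟩
  have hb : b ∉ (shift hF).range := fun ⟨p, hp⟩ => h1 p hp
  have hb1 : (1 : F) ∉ (shift hF).range := fun ⟨p, hp⟩ => shift_ne_one hF p hp
  obtain ⟨p, hp⟩ := (AddSubgroup.add_mem_iff_of_index_two hidx).mpr (iff_of_false hb hb1)
  exact h2 p hp

theorem conj_one (p b : F) :
    uS (stdTwist hF) p 0 * uS (stdTwist hF) 1 b * (uS (stdTwist hF) p 0)⁻¹ =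
      uS (stdTwist hF) 1 (b + shift hF p) := by
  rw [mul_inv_eq_iff_eq_mul, uS_mul, uS_mul]
  have e : (1 : F) + p = p + 1 := add_comm _ _
  rw [e, show shift hF p = (stdTwist hF).th p + p from rfl, map_one]
  congr 1
  linear_combination (norm := ring_nf) -(CharTwo.add_self_eq_zero p : p + p = 0)

theorem uS_one_inv : (uS (stdTwist hF) 1 0)⁻¹ = uS (stdTwist hF) 1 1 := by
  rw [uS_inv, map_one, one_mul, zero_add]

theorem units_mult_bijective :
    Function.Bijective (fun u : Fˣ => Units.map (stdTwist hF).th.toMonoidHom u * (u ^ 2)⁻¹) := by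
  refine Finite.injective_iff_bijective.mp (fun u v h => ?_)
  have h' : Units.map (stdTwist hF).th.toMonoidHom (u * v⁻¹) * ((u * v⁻¹) ^ 2)⁻¹ = 1 := by
    rw [map_mul, map_inv, mul_pow, mul_inv, inv_pow, inv_inv]
    calc _ = (Units.map (stdTwist hF).th.toMonoidHom u * (u ^ 2)⁻¹) *
          (Units.map (stdTwist hF).th.toMonoidHom v * (v ^ 2)⁻¹)⁻¹ := by
            rw [mul_inv, inv_inv]; ac_rfl
      _ = 1 := by rw [h, mul_inv_cancel]
  set w := u * v⁻¹
  have hw : (stdTwist hF).th (w : F) = (w : F) ^ 2 := by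
    have := congrArg Units.val (mul_inv_eq_one.mp h')
    simpa using this
  have h2 := (stdTwist hF).th_th (w : F)
  rw [hw, map_pow, hw] at h2
  have h3 : (w * w) * (w * w) = w * w := Units.ext (by
    simp only [Units.val_mul, ← pow_two]
    exact h2)
  have h4 : w * w = 1 := mul_eq_left.mp h3
  exact mul_inv_eq_one.mp (sq_eq_one_units h4)

theorem four_conj {x : SG hF} (h : orderOf x = 4) :
    IsConj x (uS (stdTwist hF) 1 0) ∨ IsConj x (uS (stdTwist hF) 1 0)⁻¹ := by
  set τ := stdTwist hF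
  have hx1 : x ≠ 1 := fun e => by rw [e, orderOf_one] at h; norm_num at h
  obtain ⟨-, g, a, b, hab⟩ := two_elt_mem_conj hF hx1 (by have := pow_orderOf_eq_one x; rwa [h] at this)
  have ha : a ≠ 0 := by
    rintro rfl
    have h2 : (g⁻¹ * x * g) ^ 2 = 1 := by
      rw [hab, uS_sq, map_zero, zero_mul, uS_zero]
    have : x ^ 2 = 1 := conj_pow_eq_one h2
    have := orderOf_dvd_of_pow_eq_one this
    rw [h] at this
    norm_num at this
  obtain ⟨v, hv⟩ := (units_mult_bijective hF).2 (Units.mk0 a ha)⁻¹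
  have hv' : a * τ.th (v : F) / (v : F) ^ 2 = 1 := by
    have := congrArg Units.val hv
    simp at this
    rw [← div_eq_mul_inv] at this
    rw [mul_div_assoc, this, mul_inv_cancel₀ ha]
  have c1 : IsConj x (uS τ 1 (b / τ.th (v : F))) :=
    (isConj_iff.mpr ⟨g⁻¹, by rw [inv_inv, hab]⟩ : IsConj x (uS τ a b)).trans
      (isConj_iff.mpr ⟨tS τ v⁻¹, by rw [tS_uS, inv_inv, hv']⟩)
  rcases shift_cases hF (b / τ.th (v : F)) with ⟨p, hp⟩ | ⟨p, hp⟩
  · exact Or.inl (c1.trans (isConj_iff.mpr ⟨uS τ p 0, by rw [conj_one, hp, CharTwo.add_self_eq_zero]⟩))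
  · refine Or.inr (c1.trans (isConj_iff.mpr ⟨uS τ p 0, ?_⟩))
    rw [conj_one, hp, uS_one_inv, ← add_assoc, CharTwo.add_self_eq_zero, zero_add]

theorem four_not_real : ¬ IsConj (uS (stdTwist hF) 1 0) (uS (stdTwist hF) 1 0)⁻¹ := by
  set τ := stdTwist hF
  intro h
  obtain ⟨c, hc⟩ := isConj_iff.mp h
  rw [uS_one_inv] at hc
  have hcB : c⁻¹ ∈ bor τ := SzO.mem_bor_of_fixes τ (y := uS τ 1 0) ⟨1, 0, rfl⟩
    (fun e => one_ne_zero (uS_inj τ (e.trans (uS_zero τ).symm)).1)
    (by rw [inv_inv, hc]; exact uS_mem_bor τ 1 1)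
  obtain ⟨u, p, r, hupr⟩ := (mem_bor_iff τ).mp ((bor τ).inv_mem hcB)
  rw [inv_inv] at hupr
  subst hupr
  have e : uS τ p r * uS τ 1 0 * (uS τ p r)⁻¹ = uS τ 1 (shift hF p) := by
    rw [mul_inv_eq_iff_eq_mul, uS_mul, uS_mul]
    rw [add_comm (1 : F) p, show shift hF p = τ.th p + p from rfl, map_one]
    congr 1
    linear_combination (norm := ring_nf) -(CharTwo.add_self_eq_zero p : p + p = 0)
  have e2 : tS τ u * uS τ 1 (shift hF p) * (tS τ u)⁻¹ = uS τ 1 1 := by
    rw [← e, ← hc]; group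
  rw [tS_uS] at e2
  obtain ⟨h1, h2⟩ := uS_inj τ e2
  have hu : u⁻¹ = 1 := (units_mult_bijective hF).1 (a₁ := u⁻¹) (a₂ := 1) (Units.ext (by
    simp only [Units.val_mul, Units.coe_map, map_one]
    simpa [div_eq_mul_inv] using h1))
  rw [hu, Units.val_one, map_one, div_one] at h2
  exact shift_ne_one hF p h2

end Cfsg.Agent.SzC
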