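import Mathlib
import Cfsg.Agent.Lib.SzC.FamCount
import Cfsg.Agent.Lib.SzC.UnipClasses

/-!
# Elements of odd order are inverted by involutions
-/

set_option autoImplicit false

namespace Cfsg.Agent.SzC

open Cfsg.Agent.SzB

variable {F : Type*} [Field F] [CharP F 2] [Fintype F] {m : ℕ} (hF : Fintype.card F = 2 ^ (2 * m + 1))

theorem inverted_by_involution (hm : 1 ≤ m) {x : SG hF} (hx : x ≠ 1) (ho : Odd (orderOf x)) :
    ∃ s : SG hF, s * s = 1 ∧ s ≠ 1 ∧ s * x * s = x⁻¹ := by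
  rcases trichotomy hF hx with ⟨-, g, v, hv⟩ | ⟨-, g, v, hv⟩ | hw
  · exfalso
    apply hx
    have h1 : x ^ ((2 ^ (2 * m + 1)) ^ 2) = 1 := conj_pow_eq_one (g := g) (unip_pow hF ⟨v, hv⟩)
    refine orderOf_eq_one_iff.mp (Nat.eq_one_of_dvd_coprimes ?_ dvd_rfl (orderOf_dvd_of_pow_eq_one h1))
    exact ((Nat.coprime_two_right.mpr ho).pow_right _).pow_right _
  · have hw2 := wS_tS (stdTwist hF) v
    refine ⟨g * wS _ * g⁻¹, ?_, fun h => ?_, ?_⟩
    · calc g * wS (stdTwist hF) * g⁻¹ * (g * wS _ * g⁻¹) = g * (wS (stdTwist hF) * wS _) * g⁻¹ := by group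
        _ = 1 := by rw [wS_sq]; group
    · apply wS_not_torus (stdTwist hF)
      rw [show wS (stdTwist hF) = g⁻¹ * (g * wS _ * g⁻¹) * g by group, h, mul_one, inv_mul_cancel]
      exact one_mem _
    · calc g * wS (stdTwist hF) * g⁻¹ * x * (g * wS _ * g⁻¹) = g * (wS (stdTwist hF) * (g⁻¹ * x * g) * wS _) * g⁻¹ := by group
        _ = g * (g⁻¹ * x * g)⁻¹ * g⁻¹ := by rw [← hv, hw2]
        _ = x⁻¹ := by group
  · obtain ⟨r, w, hr, hw', hwz⟩ := exists_prime_power hx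
    have hdvd : r ∣ (2 ^ (2 * m + 1)) ^ 2 + 1 := by
      rw [← hw']
      exact (orderOf_dvd_of_mem_zpowers hwz).trans (orderOf_dvd_of_pow_eq_one hw.2)
    set Φ := famS hm hF hr hdvd w hw'
    obtain ⟨s, hsN, hs2, hs1⟩ := Φ.exists_involution
    have hsinv : s⁻¹ = s := inv_eq_of_mul_eq_one_left hs2
    have hxU : x ∈ Φ.U := by
      show x ∈ Subgroup.centralizer ({w} : Set (SG hF))
      obtain ⟨k, rfl⟩ := Subgroup.mem_zpowers_iff.mp hwz
      exact Subgroup.mem_centralizer_singleton_iff.mpr ((Commute.refl x).zpow_right k).eq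
    refine ⟨s, hs2, hs1, ?_⟩
    set x' := s * x * s⁻¹ with hx'
    have hx'U : x' ∈ Φ.U := Φ.nconj s hsN x hxU
    haveI := Φ.cyc
    have hcomm : x' * x = x * x' :=
      congrArg Subtype.val (IsCyclic.commGroup.mul_comm (⟨x', hx'U⟩ : Φ.U) ⟨x, hxU⟩)
    have hfix : s * (x * x') * s⁻¹ = x * x' := by
      calc s * (x * x') * s⁻¹ = (s * x * s⁻¹) * (s * s * x * (s * s)⁻¹) := by rw [hx']; group
        _ = x' * x := by rw [hs2]; simp [hx']
        _ = x * x' := hcomm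
    have hone : x * x' = 1 := by
      by_contra hne
      have hsU : s ∈ Φ.U := piece_eq_cent hF (U := Φ.U) Φ.piece (mul_mem hxU hx'U) hne
        (Subgroup.mem_centralizer_singleton_iff.mpr (mul_inv_eq_iff_eq_mul.mp hfix))
      have hodd : Odd (Nat.card Φ.U) := Φ.odd
      haveI : Fintype Φ.U := Fintype.ofFinite _
      have h1 : s ^ Nat.card Φ.U = 1 := congrArg Subtype.val (pow_card_eq_one' (x := (⟨s, hsU⟩ : Φ.U)))
      obtain ⟨k, hk⟩ := hodd
      rw [hk, pow_succ, pow_mul, pow_two, hs2, one_pow, one_mul] at h1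
      exact hs1 h1
    rw [hsinv] at hx'
    rw [← hx']
    exact (inv_eq_of_mul_eq_one_right hone).symm

end Cfsg.Agent.SzC
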