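import Mathlib
import Cfsg.Agent.Lib.SzC.UnipClasses
import Cfsg.Agent.Lib.SzO.Geometry

/-!
# Counting involutions in a subgroup meeting the unipotent group
-/

set_option autoImplicit false

open scoped Matrix

namespace Cfsg.Agent.SzC

open Cfsg.Agent.SzB

variable {F : Type*} [Field F] [CharP F 2] [Fintype F] {m : ℕ} {hF : Fintype.card F = 2 ^ (2 * m + 1)}

theorem sc_one' : sc (stdTwist hF) (1 : SG hF) = 1 := by simp [sc, colS, col]

theorem sc_mul_inv {x : SG hF} (hx : x ∈ bor (stdTwist hF)) :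
    sc (stdTwist hF) x * sc (stdTwist hF) x⁻¹ = 1 := by
  rw [← sc_mul _ hx (inv_mem hx), mul_inv_cancel, sc_one']

theorem sc_ne_zero {x : SG hF} (hx : x ∈ bor (stdTwist hF)) : sc (stdTwist hF) x ≠ 0 :=
  left_ne_zero_of_mul_eq_one (sc_mul_inv hx)

theorem sc_unip {x : SG hF} (hx : x ∈ unip (stdTwist hF)) : sc (stdTwist hF) x = 1 := by
  obtain ⟨a, b, rfl⟩ := hx; exact sc_uS _ a b

theorem two_elt_in_bor {x : SG hF} (hx : x ∈ bor (stdTwist hF)) (h : x ^ 4 = 1) :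
    x ∈ unip (stdTwist hF) := by
  refine sc_eq_one hF hx ?_
  have h1 : sc (stdTwist hF) (x * x * (x * x)) = 1 := by
    rw [show x * x * (x * x) = x ^ 4 by simp [pow_succ, mul_assoc], h, sc_one']
  rw [sc_mul _ (mul_mem hx hx) (mul_mem hx hx), sc_mul _ hx hx] at h1
  have h2 : sc (stdTwist hF) x * sc (stdTwist hF) x = 1 := frobenius_inj F 2 (by simpa [frobenius_def, pow_two] using h1)
  exact frobenius_inj F 2 (by simpa [frobenius_def, pow_two] using h2)

theorem bor_conj_mem {g x : SG hF} (hg : g ∈ bor (stdTwist hF)) (hx : x ∈ unip (stdTwist hF)) :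
    g⁻¹ * x * g ∈ unip (stdTwist hF) := by
  have := bor_conj_unip _ (inv_mem hg) hx
  rwa [inv_inv] at this

/-- a two-subgroup lies in a conjugate of the unipotent group -/
theorem two_group_le {R : Subgroup (SG hF)} (hR : IsPGroup 2 R) :
    ∃ g : SG hF, ∀ x ∈ R, g⁻¹ * x * g ∈ unip (stdTwist hF) := by
  haveI : Fact (Nat.Prime 2) := ⟨Nat.prime_two⟩
  haveI : Fintype (SG hF) := Fintype.ofFinite _
  obtain ⟨Q, hQ⟩ := hR.exists_le_sylow
  obtain ⟨g, hg⟩ := MulAction.exists_smul_eq (SG hF) Q (sylTwo hF (stdTwist hF))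
  refine ⟨g⁻¹, fun x hx => ?_⟩
  have h : g * x * g⁻¹ ∈ ((g • Q : Sylow 2 (SG hF)) : Subgroup (SG hF)) := ⟨x, hQ hx, rfl⟩
  rw [hg, sylTwo_coe] at h
  rwa [inv_inv]

variable {M : Subgroup (SG hF)} (hne : ∃ y, y ∈ M ∧ y ∈ unip (stdTwist hF) ∧ y ≠ 1)

include hne in
/-- the unipotent part is a Sylow subgroup of `M` -/
theorem exists_syl : ∃ S : Sylow 2 M, (S : Subgroup M) = (unip (stdTwist hF)).subgroupOf M := by
  classical
  haveI : Fact (Nat.Prime 2) := ⟨Nat.prime_two⟩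
  haveI : Fintype (SG hF) := Fintype.ofFinite _
  obtain ⟨y, hyM, hyU, hy1⟩ := hne
  set τ := stdTwist hF
  have hU : IsPGroup 2 (unip τ) :=
    IsPGroup.of_card (n := 2 * (2 * m + 1)) (by rw [card_unip, hF, ← pow_mul, mul_comm])
  have hP : IsPGroup 2 ((unip τ).subgroupOf M) := by
    refine hU.of_injective ((M.subtype.comp ((unip τ).subgroupOf M).subtype).codRestrict (unip τ) (fun x => x.2))
      (fun a b h => Subtype.ext (Subtype.ext (congrArg Subtype.val h :)))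
  let S : Sylow 2 M :=
    { (unip τ).subgroupOf M with
      isPGroup' := hP
      is_maximal' := by
        intro R hR hle
        refine le_antisymm (fun r hr => ?_) hle
        obtain ⟨g, hg⟩ := two_group_le (hR.map M.subtype)
        have hgy : g⁻¹ * y * g ∈ unip τ :=
          hg y (Subgroup.mem_map.mpr ⟨⟨y, hyM⟩, hle hyU, rfl⟩)
        have hgB : g ∈ bor τ := SzO.mem_bor_of_fixes τ hyU hy1 (unip_le_bor τ hgy)
        have hgr : g⁻¹ * (r : SG hF) * g ∈ unip τ := hg _ (Subgroup.mem_map.mpr ⟨r, hr, rfl⟩)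
        show (r : SG hF) ∈ unip τ
        have := bor_conj_unip τ hgB hgr
        simpa [mul_assoc] using this }
  exact ⟨S, rfl⟩

include hne in
/-- Sylow theory inside `M` -/
theorem syl_conj {i : SG hF} (hi : i ∈ M) (hi4 : i ^ 4 = 1) :
    ∃ g ∈ M, g⁻¹ * i * g ∈ unip (stdTwist hF) := by
  classical
  haveI : Fact (Nat.Prime 2) := ⟨Nat.prime_two⟩
  haveI : Fintype (SG hF) := Fintype.ofFinite _
  obtain ⟨S, hS⟩ := exists_syl hne
  set τ := stdTwist hF
  have hi2 : IsPGroup 2 (Subgroup.zpowers (⟨i, hi⟩ : M)) := by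
    intro z
    refine ⟨2, ?_⟩
    obtain ⟨n, hn⟩ := Subgroup.mem_zpowers_iff.mp z.2
    have : (⟨i, hi⟩ : M) ^ 4 = 1 := Subtype.ext hi4
    apply Subtype.ext
    show (z : M) ^ (2 ^ 2) = 1
    rw [← hn, ← zpow_natCast, ← zpow_mul, mul_comm, zpow_mul, zpow_natCast, show (2 : ℕ) ^ 2 = 4 from rfl, this,
      one_zpow]
  obtain ⟨Q, hQ⟩ := hi2.exists_le_sylow
  obtain ⟨g, hg⟩ := MulAction.exists_smul_eq M Q S
  refine ⟨((g⁻¹ : M) : SG hF), SetLike.coe_mem _, ?_⟩
  have h : g * (⟨i, hi⟩ : M) * g⁻¹ ∈ ((g • Q : Sylow 2 M) : Subgroup M) :=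
    ⟨_, hQ (Subgroup.mem_zpowers _), rfl⟩
  rw [hg, hS] at h
  have h' : ((g * (⟨i, hi⟩ : M) * g⁻¹ : M) : SG hF) ∈ unip τ := h
  rw [Subgroup.coe_inv, inv_inv]
  exact h'

variable (M) in
/-- involutions of `M` inside the unipotent group -/
def invU : Set (SG hF) := {x | x ∈ M ∧ x ∈ unip (stdTwist hF) ∧ x ≠ 1 ∧ x * x = 1}

variable (M) in
/-- values of the character on the stabiliser -/
def scVals : Set F := {h | ∃ b, b ∈ M ∧ b ∈ bor (stdTwist hF) ∧ sc (stdTwist hF) b = h}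

variable (M) in
/-- the orbit of the first point, without it -/
def outPts : Set (SG hF ⧸ bor (stdTwist hF)) :=
  {a | a ≠ QuotientGroup.mk 1 ∧ ∃ g ∈ M, QuotientGroup.mk g = a}

variable (M) in
/-- involutions outside the stabiliser -/
def invOut : Set (SG hF) := {t | t ∈ M ∧ t * t = 1 ∧ t ∉ bor (stdTwist hF)}

include hne in
theorem invU_nonempty : ∃ z, z ∈ invU M := by
  obtain ⟨y, hyM, hyU, hy1⟩ := hne
  by_cases h : y * y = 1
  · exact ⟨y, hyM, hyU, hy1, h⟩
  · obtain ⟨a, b, rfl⟩ := hyU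
    refine ⟨uS (stdTwist hF) a b * uS (stdTwist hF) a b, mul_mem hyM hyM, mul_mem ⟨a, b, rfl⟩ ⟨a, b, rfl⟩, h, ?_⟩
    have e := uS_sq hF a b
    rw [pow_two] at e
    rw [e, ← pow_two, uS_sq, map_zero, zero_mul, uS_zero]

include hne in
/-- the character is semiregular on involutions -/
theorem scVals_le : (scVals M).ncard ≤ (invU M).ncard := by
  classical
  haveI : Fintype (SG hF) := Fintype.ofFinite _
  obtain ⟨z, hzM, hzU, hz1, hz2⟩ := invU_nonempty hne
  set τ := stdTwist hF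
  have hb : ∀ h : scVals M, ∃ b, b ∈ M ∧ b ∈ bor τ ∧ sc τ b = h.1 := fun h => h.2
  choose b hbM hbB hbh using hb
  let f : scVals M → invU M := fun h => ⟨b h * z * (b h)⁻¹, mul_mem (mul_mem (hbM h) hzM) (inv_mem (hbM h)),
    bor_conj_unip τ (hbB h) hzU, fun e => hz1 (by
      calc z = (b h)⁻¹ * (b h * z * (b h)⁻¹) * b h := by group
        _ = 1 := by rw [e]; group), by
      calc b h * z * (b h)⁻¹ * (b h * z * (b h)⁻¹) = b h * (z * z) * (b h)⁻¹ := by group
        _ = 1 := by rw [hz2]; group⟩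
  have hf : Function.Injective f := by
    intro h k e
    have e' : b h * z * (b h)⁻¹ = b k * z * (b k)⁻¹ := congrArg Subtype.val e
    have hc : ((b k)⁻¹ * b h) * z = z * ((b k)⁻¹ * b h) := by
      calc ((b k)⁻¹ * b h) * z = (b k)⁻¹ * (b h * z * (b h)⁻¹) * b h := by group
        _ = _ := by rw [e']; group
    obtain ⟨p, r, rfl⟩ := hzU
    have h0 : uS τ p r ^ 2 = 1 := by rw [pow_two]; exact hz2
    obtain rfl := SzO.sq_eq_one τ h0
    have hr : r ≠ 0 := fun e => hz1 (by rw [e, uS_zero])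
    have hu := sc_unip (cent_center τ hr hc)
    rw [sc_mul τ (inv_mem (hbB k)) (hbB h)] at hu
    apply Subtype.ext
    rw [← hbh h, ← hbh k]
    linear_combination (sc τ (b k)) * hu - (sc τ (b h)) * sc_mul_inv (hbB k)
  rw [← Nat.card_coe_set_eq, ← Nat.card_coe_set_eq]
  exact Nat.card_le_card_of_injective f hf

include hne in
/-- every coset outside contains involutions realising every value -/
theorem outPts_full {g : SG hF} (hg : g ∈ M) (hgB : g ∉ bor (stdTwist hF)) :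
    (invU M).ncard ≤ (scVals M).ncard ∧
    ∃ t, t ∈ invOut M ∧ t⁻¹ * g ∈ bor (stdTwist hF) ∧ ∀ h ∈ scVals M, ∃ s, s ∈ invOut M ∧
      t⁻¹ * s ∈ bor (stdTwist hF) ∧ sc (stdTwist hF) (t⁻¹ * s) = h := by
  classical
  haveI : Fintype (SG hF) := Fintype.ofFinite _
  set τ := stdTwist hF
  -- conjugation parametrises the outer involutions
  have hr : ∀ a : outPts M, ∃ r, r ∈ M ∧ (QuotientGroup.mk r : SG hF ⧸ bor τ) = a.1 := fun a => a.2.2
  choose r hrM hra using hr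
  have hrB : ∀ a, r a ∉ bor τ := fun a h => a.2.1 (by
    rw [← hra a]; exact QuotientGroup.eq.mpr (by simpa using h))
  let e : outPts M × invU M → invOut M := fun p => ⟨r p.1 * p.2.1 * (r p.1)⁻¹,
    mul_mem (mul_mem (hrM p.1) p.2.2.1) (inv_mem (hrM p.1)), by
      calc r p.1 * p.2.1 * (r p.1)⁻¹ * (r p.1 * p.2.1 * (r p.1)⁻¹) = r p.1 * (p.2.1 * p.2.1) * (r p.1)⁻¹ := by group
        _ = 1 := by rw [p.2.2.2.2.2]; group, fun h => hrB p.1 (by
      have := SzO.mem_bor_of_fixes τ (x := (r p.1)⁻¹) p.2.2.2.1 p.2.2.2.2.1 (by rwa [inv_inv])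
      simpa using inv_mem this)⟩
  have he : Function.Bijective e := by
    constructor
    · rintro ⟨a, z⟩ ⟨b, w⟩ h
      have h' : r a * z.1 * (r a)⁻¹ = r b * w.1 * (r b)⁻¹ := congrArg Subtype.val h
      have h2 : ((r a)⁻¹ * r b)⁻¹ * z.1 * ((r a)⁻¹ * r b) = w.1 := by
        calc ((r a)⁻¹ * r b)⁻¹ * z.1 * ((r a)⁻¹ * r b) = (r b)⁻¹ * (r a * z.1 * (r a)⁻¹) * r b := by group
          _ = w.1 := by rw [h']; group
      have h3 := SzO.mem_bor_of_fixes τ z.2.2.1 z.2.2.2.1 (by rw [h2]; exact unip_le_bor τ w.2.2.1)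
      have hab : a = b := Subtype.ext (by rw [← hra a, ← hra b]; exact QuotientGroup.eq.mpr h3)
      subst hab
      have : z.1 = w.1 := mul_left_cancel (mul_right_cancel h')
      rw [Subtype.ext this]
    · rintro ⟨i, hiM, hi2, hiB⟩
      obtain ⟨g, hgM, hgi⟩ := syl_conj hne hiM (by
        rw [show i ^ 4 = i * i * (i * i) by simp [pow_succ, mul_assoc], hi2, one_mul])
      have hgB : g ∉ bor τ := fun h => hiB (by
        have := mul_mem (mul_mem h (unip_le_bor τ hgi)) (inv_mem h)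
        simpa [mul_assoc] using this)
      let a : outPts M := ⟨QuotientGroup.mk g, fun h => hgB (by
        have := QuotientGroup.eq.mp h; simpa using inv_mem this), g, hgM, rfl⟩
      have hβ : (r a)⁻¹ * g ∈ bor τ := QuotientGroup.eq.mp (hra a)
      refine ⟨(a, ⟨(r a)⁻¹ * g * (g⁻¹ * i * g) * ((r a)⁻¹ * g)⁻¹, ?_, bor_conj_unip τ hβ hgi, ?_, ?_⟩),
        Subtype.ext ?_⟩
      · exact mul_mem (mul_mem (mul_mem (inv_mem (hrM a)) hgM) (mul_mem (mul_mem (inv_mem hgM) hiM) hgM))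
          (inv_mem (mul_mem (inv_mem (hrM a)) hgM))
      · intro e
        apply hiB
        have : i = 1 := by
          calc i = r a * ((r a)⁻¹ * g * (g⁻¹ * i * g) * ((r a)⁻¹ * g)⁻¹) * (r a)⁻¹ := by group
            _ = 1 := by rw [e]; group
        rw [this]; exact one_mem _
      · calc _ = (r a)⁻¹ * (i * i) * r a := by group
          _ = 1 := by rw [hi2]; group
      · show r a * ((r a)⁻¹ * g * (g⁻¹ * i * g) * ((r a)⁻¹ * g)⁻¹) * (r a)⁻¹ = i
        group
  -- base involutions of the fibres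
  let base : outPts M → SG hF := fun a =>
    if h : ∃ t, t ∈ invOut M ∧ (QuotientGroup.mk t : SG hF ⧸ bor τ) = a.1 then h.choose else 1
  have hcoset : ∀ t : invOut M, (QuotientGroup.mk t.1 : SG hF ⧸ bor τ) ∈ outPts M := fun t =>
    ⟨fun h => t.2.2.2 (by have := QuotientGroup.eq.mp h; simpa using inv_mem this), t.1, t.2.1, rfl⟩
  have hbase : ∀ a : outPts M, (∃ t, t ∈ invOut M ∧ (QuotientGroup.mk t : SG hF ⧸ bor τ) = a.1) →
      base a ∈ invOut M ∧ (QuotientGroup.mk (base a) : SG hF ⧸ bor τ) = a.1 := by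
    intro a h
    simp only [base, dif_pos h]
    exact h.choose_spec
  let f : invOut M → outPts M × scVals M := fun t =>
    (⟨QuotientGroup.mk t.1, hcoset t⟩, ⟨sc τ ((base ⟨QuotientGroup.mk t.1, hcoset t⟩)⁻¹ * t.1),
      (base ⟨QuotientGroup.mk t.1, hcoset t⟩)⁻¹ * t.1, by
        obtain ⟨h1, h2⟩ := hbase ⟨QuotientGroup.mk t.1, hcoset t⟩ ⟨t.1, t.2, rfl⟩
        exact ⟨mul_mem (inv_mem h1.1) t.2.1, QuotientGroup.eq.mp h2, rfl⟩⟩)
  have hf : Function.Injective f := by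
    intro t s h
    obtain ⟨ha, hh⟩ := Prod.ext_iff.mp h
    have ha' : (⟨QuotientGroup.mk t.1, hcoset t⟩ : outPts M) = ⟨QuotientGroup.mk s.1, hcoset s⟩ := ha
    have hh' : sc τ ((base ⟨QuotientGroup.mk t.1, hcoset t⟩)⁻¹ * t.1) =
        sc τ ((base ⟨QuotientGroup.mk s.1, hcoset s⟩)⁻¹ * s.1) := congrArg Subtype.val hh
    rw [← ha'] at hh'
    obtain ⟨h1, h2⟩ := hbase ⟨QuotientGroup.mk t.1, hcoset t⟩ ⟨t.1, t.2, rfl⟩
    set u := base ⟨QuotientGroup.mk t.1, hcoset t⟩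
    have hut : u⁻¹ * t.1 ∈ bor τ := QuotientGroup.eq.mp h2
    have hus : u⁻¹ * s.1 ∈ bor τ := QuotientGroup.eq.mp (h2.trans (congrArg Subtype.val ha'))
    have hti : t.1⁻¹ = t.1 := inv_eq_of_mul_eq_one_right t.2.2.1
    have hts : t.1 * s.1 ∈ unip τ := by
      have hmem := mul_mem (inv_mem hut) hus
      have e : t.1 * s.1 = (u⁻¹ * t.1)⁻¹ * (u⁻¹ * s.1) := by
        rw [mul_inv_rev, inv_inv, hti]; group
      rw [e]
      refine sc_eq_one hF hmem ?_
      rw [sc_mul τ (inv_mem hut) hus, ← hh', mul_comm, sc_mul_inv hut]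
    apply Subtype.ext
    by_contra hne'
    have hy1 : t.1 * s.1 ≠ 1 := fun e => hne' (by
      rw [mul_eq_one_iff_inv_eq.mp e] at hti; exact hti.symm)
    refine t.2.2.2 (SzO.mem_bor_of_fixes τ hts hy1 ?_)
    have e : t.1⁻¹ * (t.1 * s.1) * t.1 = (t.1 * s.1)⁻¹ := by
      rw [mul_inv_rev, hti, inv_eq_of_mul_eq_one_right s.2.2.1, ← mul_assoc, t.2.2.1, one_mul]
    rw [e]
    exact unip_le_bor τ (inv_mem hts)
  have hcard : Nat.card (outPts M × scVals M) ≤ Nat.card (invOut M) := by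
    rw [← Nat.card_congr (Equiv.ofBijective e he), Nat.card_prod, Nat.card_prod, Nat.card_coe_set_eq (scVals M),
      Nat.card_coe_set_eq (invU M)]
    exact Nat.mul_le_mul_left _ (scVals_le hne)
  have hsurj : Function.Surjective f :=
    (hf.bijective_of_nat_card_le hcard).2
  let a : outPts M := ⟨QuotientGroup.mk g, fun h => hgB (by
    have := QuotientGroup.eq.mp h; simpa using inv_mem this), g, hg, rfl⟩
  refine ⟨?_, ?_⟩
  · have h3 := Nat.card_le_card_of_injective f hf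
    rw [← Nat.card_congr (Equiv.ofBijective e he), Nat.card_prod, Nat.card_prod, Nat.card_coe_set_eq (scVals M),
      Nat.card_coe_set_eq (invU M)] at h3
    haveI : Nonempty (outPts M) := ⟨a⟩
    exact Nat.le_of_mul_le_mul_left h3 Nat.card_pos
  obtain ⟨t0, ht0⟩ := hsurj (a, ⟨1, 1, one_mem _, one_mem _, sc_one'⟩)
  obtain ⟨h1, h2⟩ := hbase a ⟨t0.1, t0.2, congrArg Subtype.val (congrArg Prod.fst ht0)⟩
  refine ⟨base a, h1, QuotientGroup.eq.mp h2, fun h hh => ?_⟩
  obtain ⟨s, hs⟩ := hsurj (a, ⟨h, hh⟩)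
  have hs1 : (⟨QuotientGroup.mk s.1, hcoset s⟩ : outPts M) = a := congrArg Prod.fst hs
  have hs2 : sc τ ((base ⟨QuotientGroup.mk s.1, hcoset s⟩)⁻¹ * s.1) = h := congrArg (fun p => p.2.1) hs
  rw [hs1] at hs2
  exact ⟨s.1, s.2, QuotientGroup.eq.mp (h2.trans (congrArg Subtype.val hs1).symm), hs2⟩

end Cfsg.Agent.SzC
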