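import Mathlib
import Cfsg.Agent.Lib.SzC.Facts

/-!
# Nilpotent covers
-/

set_option autoImplicit false

open scoped Matrix

namespace Cfsg.Agent.SzC

open Cfsg.Agent.SzB

variable {F : Type*} [Field F] [CharP F 2] [Fintype F] {m : ℕ} (hm : 1 ≤ m)
  (hF : Fintype.card F = 2 ^ (2 * m + 1))

include hm in
theorem no_nilpotent_min_cover (𝓐 : Finset (Subgroup (SG hF)))
    (hcov : ∀ g, ∃ A ∈ 𝓐, g ∈ A)
    (hmin : ∀ 𝓑 : Finset (Subgroup (SG hF)), (∀ A ∈ 𝓑, A ≠ ⊤) ∧ (∀ g, ∃ A ∈ 𝓑, g ∈ A) → 𝓐.card ≤ 𝓑.card)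
    (hnil : ∀ A ∈ 𝓐, Group.IsNilpotent A) : False := by
  classical
  haveI : Fintype (SG hF) := Fintype.ofFinite _
  haveI : Fintype (Subgroup (SG hF)) := Fintype.ofFinite _
  set τ := stdTwist hF
  set q := 2 ^ (2 * m + 1) with hq
  have hq8 : 8 ≤ q := by
    rw [hq]; calc 8 = 2 ^ 3 := by norm_num
      _ ≤ _ := Nat.pow_le_pow_right (by norm_num) (by omega)
  have hforced : ∀ U : Subgroup (SG hF), IsPiece hF U → IsCyclic U → U ≠ ⊥ → U ∈ 𝓐 := by
    intro U hU hc hne
    obtain ⟨u, hu⟩ := IsCyclic.exists_generator (α := U)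
    obtain ⟨A, hA, huA⟩ := hcov (u : SG hF)
    have hu1 : (u : SG hF) ≠ 1 := fun h => hne ((Subgroup.eq_bot_iff_forall _).mpr fun x hx => by
      obtain ⟨k, hk⟩ := Subgroup.mem_zpowers_iff.mp (hu ⟨x, hx⟩)
      have hk' : (u : SG hF) ^ k = x := by rw [← SubgroupClass.coe_zpow, hk]
      rw [← hk', h, one_zpow])
    have hUA : U ≤ A := fun x hx => by
      obtain ⟨k, hk⟩ := Subgroup.mem_zpowers_iff.mp (hu ⟨x, hx⟩)
      have hk' : (u : SG hF) ^ k = x := by rw [← SubgroupClass.coe_zpow, hk]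
      rw [← hk']; exact A.zpow_mem huA k
    haveI := hnil A hA
    haveI : Nontrivial A := ⟨⟨⟨u, huA⟩, 1, fun h => hu1 (congrArg Subtype.val h)⟩⟩
    have hcn : Subgroup.center A ≠ ⊥ := Group.IsNilpotent.center_ne_bot A
    obtain ⟨c, hcZ, hc1⟩ := (Subgroup.ne_bot_iff_exists_ne_one.mp hcn) |> fun ⟨⟨c, hc⟩, h⟩ =>
      (⟨c, hc, fun e => h (Subtype.ext e)⟩ : ∃ c : A, c ∈ Subgroup.center A ∧ c ≠ 1)
    have hcomm : ∀ y ∈ A, y * (c : SG hF) = c * y := fun y hy =>
      congrArg Subtype.val (Subgroup.mem_center_iff.mp hcZ ⟨y, hy⟩)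
    have hcU : (c : SG hF) ∈ U := piece_eq_cent hF hU u.2 hu1
      (Subgroup.mem_centralizer_singleton_iff.mpr (hcomm u huA).symm)
    have hAU : A ≤ U := fun y hy => piece_eq_cent hF hU hcU (fun h => hc1 (Subtype.ext h))
      (Subgroup.mem_centralizer_singleton_iff.mpr (hcomm y hy))
    rwa [le_antisymm hUA hAU]
  set ST : Finset (Subgroup (SG hF)) :=
    Finset.univ.filter (fun U => ∃ g : SG hF, U = (tS τ).range.map (MulAut.conj g).toMonoidHom)
  set SS : Finset (Subgroup (SG hF)) :=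
    Finset.univ.filter (fun U => ∃ p z, Nat.Prime p ∧ p ∣ q ^ 2 + 1 ∧ orderOf z = p ∧
      U = Subgroup.centralizer ({z} : Set (SG hF)))
  let bcon : SG hF ⧸ bor τ → Subgroup (SG hF) := fun a => (bor τ).map (MulAut.conj a.out).toMonoidHom
  haveI : Fintype (SG hF ⧸ bor τ) := Fintype.ofFinite _
  set SB : Finset (Subgroup (SG hF)) := Finset.univ.image bcon
  have hsub : ST ∪ SS ⊆ 𝓐 := by
    intro U hU
    rcases Finset.mem_union.mp hU with hU | hU
    · obtain ⟨g, rfl⟩ := (Finset.mem_filter.mp hU).2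
      haveI := torus_cyclic hF
      refine hforced _ (Or.inr (Or.inl ⟨g, rfl⟩))
        (isCyclic_of_surjective _ ((MulAut.conj g).toMonoidHom.subgroupMap_surjective _)) ?_
      intro h
      have := congrArg (fun H : Subgroup (SG hF) => Nat.card H) h
      simp only [Subgroup.card_bot] at this
      rw [Subgroup.card_map_of_injective (MulAut.conj g).injective, card_torus, hF] at this
      omega
    · obtain ⟨p, z, hp, hd, hz, rfl⟩ := (Finset.mem_filter.mp hU).2
      obtain ⟨hzU, hz1⟩ := z_mem hF hp hd hz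
      refine hforced _ (Or.inr (Or.inr ⟨p, z, hp, hd, hz, rfl⟩)) (cent_cyclic hF hp hd hz) ?_
      intro h
      rw [h, Subgroup.mem_bot] at hzU
      exact hz1 hzU
  have hdisj : Disjoint ST SS := by
    rw [Finset.disjoint_left]
    intro U h1 h2
    obtain ⟨g, rfl⟩ := (Finset.mem_filter.mp h1).2
    obtain ⟨p, z, hp, hd, hz, e⟩ := (Finset.mem_filter.mp h2).2
    have h := singer_card_dvd hF hp hd hz
    rw [← e, Subgroup.card_map_of_injective (MulAut.conj g).injective, card_torus, hF] at h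
    have := Nat.eq_one_of_dvd_coprimes (pieces_coprime (m := m)).2.2 dvd_rfl h
    omega
  have hST : (normT τ).index ≤ ST.card := by
    haveI : Fintype (SG hF ⧸ normT τ) := Fintype.ofFinite _
    let f : SG hF ⧸ normT τ → Subgroup (SG hF) := fun a => (tS τ).range.map (MulAut.conj a.out).toMonoidHom
    have hf : Function.Injective f := by
      intro a b h
      rw [← a.out_eq, ← b.out_eq]
      refine QuotientGroup.eq.mpr ?_
      obtain ⟨v, hv⟩ := exists_unit_ne hm hF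
      have hmem : MulAut.conj b.out (tS τ v) ∈ f a := by
        rw [h]; exact Subgroup.mem_map_of_mem _ ⟨v, rfl⟩
      obtain ⟨_, ⟨v', rfl⟩, he⟩ := hmem
      have he' : a.out * tS τ v' * a.out⁻¹ = b.out * tS τ v * b.out⁻¹ := he
      have e : a.out⁻¹ * b.out * tS τ v * (a.out⁻¹ * b.out)⁻¹ = tS τ v' := by
        calc a.out⁻¹ * b.out * tS τ v * (a.out⁻¹ * b.out)⁻¹
            = a.out⁻¹ * (b.out * tS τ v * b.out⁻¹) * a.out := by group
          _ = _ := by rw [← he']; group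
      rcases torus_norm τ hv e with ⟨w, hw, -⟩ | ⟨w, hw, -⟩
      · exact ⟨w, Or.inl hw⟩
      · exact ⟨w, Or.inr hw⟩
    rw [Subgroup.index, Nat.card_eq_fintype_card, ← Finset.card_univ, ← Finset.card_image_of_injective _ hf]
    refine Finset.card_le_card fun U hU => ?_
    obtain ⟨a, -, rfl⟩ := Finset.mem_image.mp hU
    exact Finset.mem_filter.mpr ⟨Finset.mem_univ _, _, rfl⟩
  have hSB : SB.card ≤ q ^ 2 + 1 := by
    refine Finset.card_image_le.trans ?_
    rw [Finset.card_univ, ← Nat.card_eq_fintype_card, ← Subgroup.index, index_bor, hF]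
  have hborcov : ∀ g x : SG hF, g⁻¹ * x * g ∈ bor τ → ∃ A ∈ SB, x ∈ A := by
    intro g x hx
    refine ⟨bcon (QuotientGroup.mk g), Finset.mem_image_of_mem _ (Finset.mem_univ _), ?_⟩
    obtain ⟨b, hb⟩ := QuotientGroup.mk_out_eq_mul (bor τ) g
    apply conj_map_mem
    rw [hb]
    have := mul_mem (mul_mem (inv_mem b.2) hx) b.2
    simpa [mul_assoc] using this
  have hbcov : ∀ g, ∃ A ∈ SB ∪ SS, g ∈ A := by
    intro x
    by_cases hx : x = 1
    · obtain ⟨A, hA, h⟩ := hborcov 1 x (by simp [hx])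
      exact ⟨A, Finset.mem_union_left _ hA, h⟩
    obtain ⟨U, hU, hxU⟩ := exists_piece hF hx
    rcases hU with ⟨g, rfl⟩ | ⟨g, rfl⟩ | ⟨p, z, hp, hd, hz, rfl⟩
    · obtain ⟨v, hv, rfl⟩ := hxU
      obtain ⟨A, hA, h⟩ := hborcov g ((MulAut.conj g).toMonoidHom v) (by
        simpa [MulAut.conj_apply, mul_assoc] using unip_le_bor τ hv)
      exact ⟨A, Finset.mem_union_left _ hA, h⟩
    · obtain ⟨_, ⟨u, rfl⟩, rfl⟩ := hxU
      obtain ⟨A, hA, h⟩ := hborcov g ((MulAut.conj g).toMonoidHom (tS τ u)) (by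
        simpa [MulAut.conj_apply, mul_assoc] using tS_mem_bor τ u)
      exact ⟨A, Finset.mem_union_left _ hA, h⟩
    · exact ⟨_, Finset.mem_union_right _ (Finset.mem_filter.mpr ⟨Finset.mem_univ _, p, z, hp, hd, hz, rfl⟩), hxU⟩
  have hproper : ∀ A ∈ SB ∪ SS, A ≠ ⊤ := by
    intro A hA htop
    have hc : Nat.card A = Nat.card (SG hF) := by rw [htop, Subgroup.card_top]
    rw [card_SG] at hc
    rcases Finset.mem_union.mp hA with hA | hA
    · obtain ⟨a, -, rfl⟩ := Finset.mem_image.mp hA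
      rw [Subgroup.card_map_of_injective (MulAut.conj a.out).injective, card_bor, hF, ← hq] at hc
      have h1 : 0 < q ^ 2 * (q - 1) := Nat.mul_pos (by positivity) (by omega)
      nlinarith
    · obtain ⟨p, z, hp, hd, hz, rfl⟩ := (Finset.mem_filter.mp hA).2
      have h := Nat.le_of_dvd (by omega) (singer_card_dvd hF hp hd hz)
      rw [hc, ← hq] at h
      have h1 : 2 ≤ q ^ 2 * (q - 1) := by
        calc 2 ≤ q ^ 2 * 1 := by nlinarith
          _ ≤ _ := Nat.mul_le_mul_left _ (by omega)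
      nlinarith
  have h1 := hmin (SB ∪ SS) ⟨hproper, hbcov⟩
  have h2 := Finset.card_le_card hsub
  rw [Finset.card_union_of_disjoint hdisj] at h2
  have h3 := Finset.card_union_le SB SS
  have h4 := (normT τ).card_mul_index
  rw [card_normT, card_SG, hF, ← hq] at h4
  have h5 : 2 * (normT τ).index = q ^ 2 * (q ^ 2 + 1) := by
    apply Nat.eq_of_mul_eq_mul_left (show 0 < q - 1 by omega)
    calc (q - 1) * (2 * (normT τ).index) = 2 * (q - 1) * (normT τ).index := by ring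
      _ = q ^ 2 * (q - 1) * (q ^ 2 + 1) := h4
      _ = _ := by ring
  have h6 : (normT τ).index ≤ q ^ 2 + 1 := by omega
  have h7 : 64 * (q ^ 2 + 1) ≤ q ^ 2 * (q ^ 2 + 1) := Nat.mul_le_mul_right _ (by nlinarith)
  omega

end Cfsg.Agent.SzC
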