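import Mathlib
import Cfsg.Agent.Lib.SzC.FamCount

/-!
# Solubilizers
-/

set_option autoImplicit false

open scoped Matrix

namespace Cfsg.Agent.SzC

open Cfsg.Agent.SzB

/-- the solubilizer of an element -/
def sol {G : Type*} [Group G] (x : G) : Set G :=
  {y | Group.IsSolvable ↥(Subgroup.closure ({x, y} : Set G))}

theorem isSolvable_of_le {G : Type*} [Group G] {H K : Subgroup G} (h : H ≤ K) (hK : Group.IsSolvable K) :
    Group.IsSolvable H :=
  haveI := hK
  Group.isSolvable_of_isSolvable_injective (f := Subgroup.inclusion h) (Subgroup.inclusion_injective h)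

theorem sol_card_conj {G : Type*} [Group G] [Finite G] (g x : G) :
    (sol (g * x * g⁻¹)).ncard = (sol x).ncard := by
  have key : ∀ g x y : G, y ∈ sol x → g * y * g⁻¹ ∈ sol (g * x * g⁻¹) := by
    intro g x y hy
    have e : (Subgroup.closure ({x, y} : Set G)).map (MulAut.conj g).toMonoidHom =
        Subgroup.closure ({g * x * g⁻¹, g * y * g⁻¹} : Set G) := by
      rw [MonoidHom.map_closure, Set.image_pair]; rfl
    show Group.IsSolvable _
    rw [← e]
    exact @Group.isSolvable_of_surjective _ _ _ _ _ ((MulAut.conj g).toMonoidHom.subgroupMap_surjective _) hy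
  have h : sol (g * x * g⁻¹) = (fun y => g * y * g⁻¹) '' sol x := by
    ext y
    constructor
    · intro hy
      refine ⟨g⁻¹ * y * g, ?_, by group⟩
      have := key g⁻¹ _ y hy
      rw [inv_inv] at this
      convert this using 2
      group
    · rintro ⟨z, hz, rfl⟩
      exact key g x z hz
  rw [h, Set.ncard_image_of_injective _ (fun a b h => mul_left_cancel (mul_right_cancel h))]

theorem isSolvable_of_card_dvd_four {G : Type*} [Group G] [Finite G] (h : Nat.card G = 2 ∨ Nat.card G = 4) :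
    Group.IsSolvable G := by
  haveI : Fact (Nat.Prime 2) := ⟨Nat.prime_two⟩
  have hp : IsPGroup 2 G := by
    rcases h with h | h
    · exact IsPGroup.of_card (n := 1) (by rw [h, pow_one])
    · exact IsPGroup.of_card (n := 2) (by rw [h]; norm_num)
  haveI := hp.isNilpotent
  infer_instance

variable {F : Type*} [Field F] [CharP F 2] [Fintype F] {m : ℕ} (hm : 1 ≤ m)
  (hF : Fintype.card F = 2 ^ (2 * m + 1))

theorem bor_solvable : Group.IsSolvable (bor (stdTwist hF)) := by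
  set τ := stdTwist hF
  haveI : Fact (Nat.Prime 2) := ⟨Nat.prime_two⟩
  let f : bor τ →* F :=
    { toFun := fun g => sc τ g.1
      map_one' := by
        show sc τ (1 : SG hF) = 1
        simp [sc, colS, col]
      map_mul' := fun g h => sc_mul τ g.2 h.2 }
  let f' : bor τ →* Fˣ := f.toHomUnits
  have hker : ∀ g : f'.ker, ((g : bor τ) : SG hF) ∈ unip τ := by
    rintro ⟨⟨g, hg⟩, hk⟩
    obtain ⟨u, a, b, rfl⟩ := (mem_bor_iff τ).mp hg
    have h : sc τ (tS τ u * uS τ a b) = 1 := congrArg Units.val hk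
    rw [sc_mul τ (tS_mem_bor τ u) (uS_mem_bor τ a b), sc_tS, sc_uS, mul_one] at h
    show tS τ u * uS τ a b ∈ unip τ
    rw [show u = 1 from Units.ext h, map_one, one_mul]
    exact ⟨a, b, rfl⟩
  haveI : Group.IsNilpotent (unip τ) :=
    (IsPGroup.of_card (n := 2 * (2 * m + 1)) (by rw [card_unip, hF, ← pow_mul, mul_comm]) :
      IsPGroup 2 (unip τ)).isNilpotent
  haveI : Group.IsSolvable f'.ker :=
    Group.isSolvable_of_isSolvable_injective (f := ((bor τ).subtype.comp f'.ker.subtype).codRestrict (unip τ) hker)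
      (fun a b h => Subtype.ext (Subtype.ext (congrArg Subtype.val h :)))
  exact Group.isSolvable_of_ker_le_range f'.ker.subtype f' (le_of_eq f'.ker.range_subtype.symm)

variable {hF}

theorem Fam.solvable (Φ : Fam hF) : Group.IsSolvable Φ.N := by
  haveI := Φ.cyc
  haveI : IsCyclic (Φ.U.subgroupOf Φ.N) :=
    isCyclic_of_injective (Subgroup.subgroupOfEquivOfLe Φ.le).toMonoidHom (MulEquiv.injective _)
  letI := IsCyclic.commGroup (α := Φ.U.subgroupOf Φ.N)
  haveI : Group.IsSolvable (Φ.U.subgroupOf Φ.N) := inferInstance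
  haveI : Group.IsSolvable (Φ.N ⧸ Φ.U.subgroupOf Φ.N) := by
    apply isSolvable_of_card_dvd_four
    rw [← Subgroup.index, Φ.quot_index]
    exact Φ.he
  exact Group.isSolvable_of_ker_le_range (Φ.U.subgroupOf Φ.N).subtype (QuotientGroup.mk' (Φ.U.subgroupOf Φ.N))
    (by rw [QuotientGroup.ker_mk', Subgroup.range_subtype])

theorem stab_mk {N : Subgroup (SG hF)} {x g : SG hF} :
    x • (QuotientGroup.mk g : SG hF ⧸ N) = QuotientGroup.mk g ↔ g⁻¹ * x * g ∈ N := by
  rw [MulAction.Quotient.smul_mk, smul_eq_mul, eq_comm, QuotientGroup.eq, mul_assoc]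

/-- elements fixing a common coset with `x` -/
def both (N : Subgroup (SG hF)) (x : SG hF) : Set (SG hF) :=
  {y | ∃ a : SG hF ⧸ N, x • a = a ∧ y • a = a}

theorem both_sol {N : Subgroup (SG hF)} (hN : Group.IsSolvable N) {x y : SG hF} (h : y ∈ both N x) :
    y ∈ sol x := by
  obtain ⟨a, hx, hy⟩ := h
  rw [← a.out_eq] at hx hy
  change x • (QuotientGroup.mk a.out : SG hF ⧸ N) = _ at hx
  change y • (QuotientGroup.mk a.out : SG hF ⧸ N) = _ at hy
  rw [stab_mk] at hx hy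
  set g := a.out
  have hle : Subgroup.closure ({x, y} : Set (SG hF)) ≤ N.map (MulAut.conj g).toMonoidHom := by
    rw [Subgroup.closure_le]
    rintro z (rfl | hz)
    · exact conj_map_mem hx
    · rw [Set.mem_singleton_iff] at hz; subst hz; exact conj_map_mem hy
  refine isSolvable_of_le hle ?_
  exact @Group.isSolvable_of_surjective _ _ _ _ _ ((MulAut.conj g).toMonoidHom.subgroupMap_surjective _) hN

/-- The solubilizer as a union over the four families. -/
theorem sol_eq (hm : 1 ≤ m) :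
    ∃ Φp Φm : Fam hF, Nat.card Φp.U = 2 ^ (2 * m + 1) + 2 ^ (m + 1) + 1 ∧
      Nat.card Φm.U = 2 ^ (2 * m + 1) - 2 ^ (m + 1) + 1 ∧ Φp.e = 4 ∧ Φm.e = 4 ∧
      (∀ x ∈ wset hF, x ∈ conjSet Φp.U ∨ x ∈ conjSet Φm.U) ∧
      ∀ x : SG hF, x ≠ 1 → sol x =
        both (bor (stdTwist hF)) x ∪ both (famT hm hF).N x ∪ both Φp.N x ∪ both Φm.N x := by
  classical
  obtain ⟨zp, zm, pp, pm, ⟨hpp, hppd, hzp⟩, ⟨hpm, hpmd, hzm⟩, ep, em, -, -, hcov⟩ := two_classes hm hF
  set Φp := famS hm hF hpp hppd zp hzp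
  set Φm := famS hm hF hpm hpmd zm hzm
  refine ⟨Φp, Φm, ep, em, rfl, rfl, fun x hx => by rw [hcov] at hx; exact hx,
    fun x hx => Set.Subset.antisymm (fun y hy => ?_) ?_⟩
  swap
  · rintro y (((h | h) | h) | h)
    · exact both_sol (bor_solvable hF) h
    · exact both_sol (famT hm hF).solvable h
    · exact both_sol Φp.solvable h
    · exact both_sol Φm.solvable h
  set H := Subgroup.closure ({x, y} : Set (SG hF))
  have hxH : x ∈ H := Subgroup.subset_closure (Set.mem_insert _ _)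
  have hyH : y ∈ H := Subgroup.subset_closure (Set.mem_insert_of_mem _ rfl)
  have hne : H ≠ ⊥ := fun h => by rw [h, Subgroup.mem_bot] at hxH; exact hx hxH
  obtain ⟨U, hU, hle⟩ := solvable_le_normalizer hF hy hne
  have key : ∀ (N V : Subgroup (SG hF)) (g : SG hF), Subgroup.normalizer (V : Set (SG hF)) = N →
      U = V.map (MulAut.conj g).toMonoidHom → y ∈ both N x := by
    intro N V g hN hUV
    have hmem : ∀ z ∈ H, g⁻¹ * z * g ∈ N := by
      intro z hz
      have := hle hz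
      rw [hUV, ← Subgroup.map_equiv_normalizer_eq, hN] at this
      obtain ⟨w, hw, rfl⟩ := this
      simpa [mul_assoc] using hw
    exact ⟨QuotientGroup.mk g, stab_mk.mpr (hmem x hxH), stab_mk.mpr (hmem y hyH)⟩
  rcases hU with ⟨g, hg⟩ | ⟨g, hg⟩ | ⟨p, z, hp, hd, hz, hg⟩
  · exact Or.inl (Or.inl (Or.inl (key _ _ g (normalizer_unip _) hg)))
  · exact Or.inl (Or.inl (Or.inr (key _ _ g (normalizer_torus hF hm) hg)))
  · obtain ⟨hzU, hz1⟩ := z_mem hF hp hd hz
    have hzW : z ∈ wset hF := ⟨hz1, orderOf_dvd_iff_pow_eq_one.mp (hz ▸ hd)⟩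
    rw [hcov] at hzW
    have hconj : ∀ {p0 : ℕ} {z0 : SG hF}, p0.Prime → p0 ∣ (2 ^ (2 * m + 1)) ^ 2 + 1 → orderOf z0 = p0 →
        z ∈ conjSet (Subgroup.centralizer ({z0} : Set (SG hF))) →
        ∃ k : SG hF, U = (Subgroup.centralizer ({z0} : Set (SG hF))).map (MulAut.conj k).toMonoidHom := by
      rintro p0 z0 hp0 hd0 hz0 ⟨-, k, hk⟩
      refine ⟨k, piece_unique hF (Or.inr (Or.inr ⟨p, z, hp, hd, hz, hg⟩))
        (piece_conj hF (Or.inr (Or.inr ⟨p0, z0, hp0, hd0, hz0, rfl⟩)) k) (hg ▸ hzU) (conj_map_mem hk) hz1⟩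
    rcases hzW with h | h
    · obtain ⟨k, hk⟩ := hconj hpp hppd hzp h
      exact Or.inl (Or.inr (key _ _ k rfl hk))
    · obtain ⟨k, hk⟩ := hconj hpm hpmd hzm h
      exact Or.inr (key _ _ k rfl hk)

theorem Fam.mem_map {Φ : Fam hF} {g y : SG hF} (h : g⁻¹ * y * g ∈ Φ.U) :
    y ∈ Φ.U.map (MulAut.conj g).toMonoidHom := conj_map_mem h

/-- Two members through a 2-element meet only in its centraliser. -/
theorem meet {x y : SG hF} (Φ Ψ : Fam hF) {g h : SG hF}
    (hxg : g⁻¹ * x * g ∈ Φ.N) (hyg : g⁻¹ * y * g ∈ Φ.N) (hxh : h⁻¹ * x * h ∈ Ψ.N) (hyh : h⁻¹ * y * h ∈ Ψ.N)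
    (hc : y * x ≠ x * y) :
    Φ.U.map (MulAut.conj g).toMonoidHom = Ψ.U.map (MulAut.conj h).toMonoidHom := by
  have hconj : ∀ (k z : SG hF) (n : ℕ), (k⁻¹ * z * k) ^ n = k⁻¹ * z ^ n * k := fun k z n => by
    simpa using (conj_pow (i := n) (a := k⁻¹) (b := z))
  set c := y * x * y⁻¹ * x⁻¹ with hcdef
  have hc1 : c ≠ 1 := fun e => hc (by
    calc y * x = c * (x * y) := by rw [hcdef]; group
      _ = x * y := by rw [e, one_mul])
  have e1 : g⁻¹ * c * g ∈ Φ.U := by
    have := Φ.commutator_mem hyg hxg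
    convert this using 1
    rw [hcdef]; group
  have e2 : h⁻¹ * c * h ∈ Ψ.U := by
    have := Ψ.commutator_mem hyh hxh
    convert this using 1
    rw [hcdef]; group
  exact piece_unique hF (piece_conj hF Φ.piece g) (piece_conj hF Ψ.piece h) (conj_map_mem e1) (conj_map_mem e2) hc1

theorem same_coset (Φ : Fam hF) {a b : SG hF ⧸ Φ.N}
    (h : Φ.U.map (MulAut.conj a.out).toMonoidHom = Φ.U.map (MulAut.conj b.out).toMonoidHom) : a = b := by
  rw [← a.out_eq, ← b.out_eq]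
  refine QuotientGroup.eq.mpr (Φ.self_normalizing ?_)
  intro z hz
  have hn : Φ.N.map (MulAut.conj a.out).toMonoidHom = Φ.N.map (MulAut.conj b.out).toMonoidHom := by
    refine (congrArg (Subgroup.map _) Φ.normalizer_eq).symm.trans
      (Eq.trans ?_ (congrArg (Subgroup.map _) Φ.normalizer_eq))
    rw [Subgroup.map_equiv_normalizer_eq, Subgroup.map_equiv_normalizer_eq, h]
  obtain ⟨w, hw, e⟩ := (hn ▸ Subgroup.mem_map_of_mem _ hz :
    (MulAut.conj b.out).toMonoidHom z ∈ Φ.N.map (MulAut.conj a.out).toMonoidHom)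
  have e' : a.out * w * a.out⁻¹ = b.out * z * b.out⁻¹ := e
  have e'' : a.out⁻¹ * b.out * z * (a.out⁻¹ * b.out)⁻¹ = w := by
    calc a.out⁻¹ * b.out * z * (a.out⁻¹ * b.out)⁻¹ = a.out⁻¹ * (b.out * z * b.out⁻¹) * a.out := by group
      _ = w := by rw [← e']; group
  show a.out⁻¹ * b.out * z * (a.out⁻¹ * b.out)⁻¹ ∈ Φ.N
  rw [e'']; exact hw

theorem branch_card (Φ : Fam hF) (B : Subgroup (SG hF)) {x : SG hF} (hx4 : x ^ 4 = 1) (hx1 : x ≠ 1)
    (hcB : ∀ y, y * x = x * y → y ∈ B)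
    (hcore : ∀ g, g⁻¹ * x * g ∈ Φ.N → ∀ u ∈ Φ.U, g * u * g⁻¹ ∈ B → u = 1) :
    (both Φ.N x \ (B : Set (SG hF))).ncard =
      Nat.card {a : SG hF ⧸ Φ.N // x • a = a} * (Φ.e * Nat.card Φ.U - Φ.e) := by
  classical
  haveI : Fintype (SG hF) := Fintype.ofFinite _
  let W : {a : SG hF ⧸ Φ.N // x • a = a} → Set (SG hF) := fun a => {y | y • a.1 = a.1 ∧ y ∉ B}
  let f : (Σ a, W a) → (both Φ.N x \ (B : Set (SG hF)) : Set (SG hF)) := fun p =>
    ⟨p.2.1, ⟨p.1.1, p.1.2, p.2.2.1⟩, p.2.2.2⟩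
  have hf : Function.Bijective f := by
    constructor
    · rintro ⟨⟨a, ha⟩, ⟨y, hya, hyB⟩⟩ ⟨⟨b, hb⟩, ⟨y', hyb, hyB'⟩⟩ he
      obtain rfl : y = y' := congrArg Subtype.val he
      have hab : a = b := by
        have hxa := ha; have hxb := hb; have hya' := hya; have hyb' := hyb
        change y • a = a at hya'
        change y • b = b at hyb'
        rw [← a.out_eq] at hxa hya'
        rw [← b.out_eq] at hxb hyb'
        change x • (QuotientGroup.mk a.out : SG hF ⧸ Φ.N) = _ at hxa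
        change y • (QuotientGroup.mk a.out : SG hF ⧸ Φ.N) = _ at hya'
        change x • (QuotientGroup.mk b.out : SG hF ⧸ Φ.N) = _ at hxb
        change y • (QuotientGroup.mk b.out : SG hF ⧸ Φ.N) = _ at hyb'
        rw [stab_mk] at hxa hya' hxb hyb'
        exact same_coset Φ (meet Φ Φ hxa hya' hxb hyb' (fun h => hyB (hcB y h)))
      subst hab
      rfl
    · rintro ⟨y, ⟨a, ha, hy⟩, hyB⟩
      exact ⟨⟨⟨a, ha⟩, ⟨y, hy, hyB⟩⟩, rfl⟩
  rw [← Nat.card_coe_set_eq, ← Nat.card_congr (Equiv.ofBijective f hf), Nat.card_sigma]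
  rw [Finset.sum_eq_card_nsmul (b := Φ.e * Nat.card Φ.U - Φ.e), Finset.card_univ, ← Nat.card_eq_fintype_card,
    smul_eq_mul]
  rintro ⟨a, ha⟩ -
  have hxa : x • (QuotientGroup.mk a.out : SG hF ⧸ Φ.N) = QuotientGroup.mk a.out := by
    have e : (QuotientGroup.mk a.out : SG hF ⧸ Φ.N) = a := a.out_eq
    rw [e]; exact ha
  rw [stab_mk] at hxa
  set g := a.out with hg
  have hiff : ∀ n, n ∈ Φ.N → (g * n * g⁻¹ ∈ B ↔ n * (g⁻¹ * x * g) = g⁻¹ * x * g * n) := by
    intro n hn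
    constructor
    · intro hB
      by_contra hne
      have hxB : x ∈ B := hcB x rfl
      have hc := Φ.commutator_mem hn hxa
      have h1 := hcore g hxa _ hc (by
        have e : g * (n * (g⁻¹ * x * g) * n⁻¹ * (g⁻¹ * x * g)⁻¹) * g⁻¹ =
            (g * n * g⁻¹) * x * (g * n * g⁻¹)⁻¹ * x⁻¹ := by group
        rw [e]
        exact mul_mem (mul_mem (mul_mem hB hxB) (inv_mem hB)) (inv_mem hxB))
      exact hne (by
        calc n * (g⁻¹ * x * g) = n * (g⁻¹ * x * g) * n⁻¹ * (g⁻¹ * x * g)⁻¹ * ((g⁻¹ * x * g) * n) := by group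
          _ = _ := by rw [h1, one_mul])
    · intro h
      refine hcB _ ?_
      calc g * n * g⁻¹ * x = g * (n * (g⁻¹ * x * g)) * g⁻¹ := by group
        _ = g * (g⁻¹ * x * g * n) * g⁻¹ := by rw [h]
        _ = _ := by group
  have himg : W ⟨a, ha⟩ = (fun n => g * n * g⁻¹) ''
      ((Φ.N : Set (SG hF)) \ {n | n ∈ Φ.N ∧ n * (g⁻¹ * x * g) = g⁻¹ * x * g * n}) := by
    ext y
    have hmem : y • a = a ↔ g⁻¹ * y * g ∈ Φ.N := by
      conv_lhs => rw [← a.out_eq]
      exact stab_mk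
    constructor
    · rintro ⟨hy, hyB⟩
      refine ⟨g⁻¹ * y * g, ⟨hmem.mp hy, fun h => hyB ?_⟩, by group⟩
      have := (hiff _ h.1).mpr h.2
      convert this using 1
      group
    · rintro ⟨n, ⟨hn, hnc⟩, rfl⟩
      refine ⟨hmem.mpr (by convert hn using 1; group; exact Iff.rfl), fun h => hnc ⟨hn, (hiff n hn).mp h⟩⟩
  have hx4' : (g⁻¹ * x * g) ^ 4 = 1 := by
    calc (g⁻¹ * x * g) ^ 4 = g⁻¹ * x ^ 4 * g := by simp [pow_succ, mul_assoc]
      _ = 1 := by rw [hx4]; group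
  have hx1' : g⁻¹ * x * g ≠ 1 := fun e => hx1 (by
    calc x = g * (g⁻¹ * x * g) * g⁻¹ := by group
      _ = 1 := by rw [e]; group)
  rw [Nat.card_coe_set_eq, himg, Set.ncard_image_of_injective _ (fun p q h => mul_left_cancel (mul_right_cancel h)),
    Set.ncard_sdiff (fun n hn => hn.1), Φ.cent_card hxa hx4' hx1', ← Nat.card_coe_set_eq]
  change Nat.card Φ.N - Φ.e = _
  rw [Φ.card]

theorem branches_disjoint (Φ Ψ : Fam hF) (B : Subgroup (SG hF)) {x : SG hF}
    (hcB : ∀ y, y * x = x * y → y ∈ B) (hne : Nat.card Φ.U ≠ Nat.card Ψ.U) :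
    Disjoint (both Φ.N x \ (B : Set (SG hF))) (both Ψ.N x \ (B : Set (SG hF))) := by
  rw [Set.disjoint_left]
  rintro y ⟨⟨a, hxa, hya⟩, hyB⟩ ⟨⟨b, hxb, hyb⟩, -⟩
  rw [← a.out_eq] at hxa hya
  rw [← b.out_eq] at hxb hyb
  change x • (QuotientGroup.mk a.out : SG hF ⧸ Φ.N) = _ at hxa
  change y • (QuotientGroup.mk a.out : SG hF ⧸ Φ.N) = _ at hya
  change x • (QuotientGroup.mk b.out : SG hF ⧸ Ψ.N) = _ at hxb
  change y • (QuotientGroup.mk b.out : SG hF ⧸ Ψ.N) = _ at hyb
  rw [stab_mk] at hxa hya hxb hyb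
  have h := congrArg (fun S : Subgroup (SG hF) => Nat.card S) (meet Φ Ψ hxa hya hxb hyb (fun h => hyB (hcB y h)))
  rw [Subgroup.card_map_of_injective (MulAut.conj a.out).injective,
    Subgroup.card_map_of_injective (MulAut.conj b.out).injective] at h
  exact hne h

end Cfsg.Agent.SzC
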